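import Groth.Agent.ShStab.K848.Slope
import Groth.Agent.S1528

/-!
# Additivity of the degree of invertible modules
-/

set_option autoImplicit false
universe u
open CategoryTheory CategoryTheory.Limits AlgebraicGeometry Opposite TopologicalSpace Polynomial

namespace K848.DegAdd

open Groth.Agent Groth.Agent.CurvesB
open Groth.Agent.Fga.PicMon
open ShStab StabCat
open K848.Rank K848.Hull K848.Poly K848.HB K848.TF K848.Dim K848.Stab K848.Hartogs K848.PicOne K848.Extn K848.Hull2
open K848.Slope

/-- the polynomial in the last variable -/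
noncomputable def ev3 (P : MvPolynomial (Fin 3) ℚ) (a b : ℚ) : ℚ[X] :=
  MvPolynomial.aeval (R := ℚ) ![Polynomial.C a, Polynomial.C b, Polynomial.X] P

theorem eval_ev3 (P : MvPolynomial (Fin 3) ℚ) (a b m : ℚ) :
    (ev3 P a b).eval m = MvPolynomial.eval ![a, b, m] P := by
  unfold ev3
  rw [← Polynomial.coe_evalRingHom, MvPolynomial.aeval_def, MvPolynomial.eval₂_comp_left]
  unfold MvPolynomial.eval
  rw [MvPolynomial.coe_eval₂Hom]
  congr 1
  · ext; simp
  · funext i
    fin_cases i <;> simp

theorem coeff_ev3_add {n : ℕ} (hn : 1 ≤ n) (P : MvPolynomial (Fin 3) ℚ) (hP : P.totalDegree ≤ n) :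
    (ev3 P 1 1).coeff (n - 1) + (ev3 P 0 0).coeff (n - 1) = (ev3 P 1 0).coeff (n - 1) + (ev3 P 0 1).coeff (n - 1) := by
  unfold ev3
  simp only [MvPolynomial.aeval_def, MvPolynomial.eval₂_eq', Polynomial.finsetSum_coeff]
  rw [← Finset.sum_add_distrib, ← Finset.sum_add_distrib]
  refine Finset.sum_congr rfl fun d hd => ?_
  have h1 : d 0 + d 1 + d 2 ≤ n := by
    have h2 := (MvPolynomial.le_totalDegree hd).trans hP
    rw [Finsupp.sum_fintype _ _ (fun _ => rfl), Fin.sum_univ_three] at h2
    exact h2
  simp only [Fin.prod_univ_three]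
  simp only [Matrix.cons_val_zero, Matrix.cons_val_one, Matrix.cons_val]
  rw [Polynomial.algebraMap_eq]
  simp only [Polynomial.C_1, Polynomial.C_0, one_pow, one_mul]
  by_cases h0 : d 0 = 0
  · rw [h0, pow_zero, one_mul]
    simp only [one_mul]
    ring
  · by_cases h1' : d 1 = 0
    · rw [h1', pow_zero]
      simp only [mul_one, one_mul]
    · have h3 : d 2 ≠ n - 1 := by omega
      rw [zero_pow h0, zero_pow h1']
      simp only [zero_mul, mul_zero, Polynomial.coeff_zero, add_zero]
      rw [Polynomial.coeff_C_mul, Polynomial.coeff_X_pow, if_neg (Ne.symm h3), mul_zero]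

variable {X : Scheme.{u}} [IsIntegral X]

variable (k : Type u) [Field k] [X.Over (Spec (CommRingCat.of k))]
  [IsProper (X ↘ Spec (CommRingCat.of k))] {L : X.Modules} {n : ℕ}

omit [IsIntegral X] in
/-- the degree is additive on invertible modules -/
theorem deg_tensor (hL : PicF.IsInvertible L) (hn : topologicalKrullDim X = n) (h1 : 1 ≤ n) {A B C : X.Modules}
    (hA : PicF.IsInvertible A) (hB : PicF.IsInvertible B) (hC : PicF.IsInvertible C) (h : mc C = mc A * mc B) :
    alpha (n - 1) (hp k L C) + alpha (n - 1) (hp k L (Coh.structureModule X)) =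
      alpha (n - 1) (hp k L A) + alpha (n - 1) (hp k L B) := by
  have hO : Coh.IsCoh (Coh.structureModule X) := isCoh_structureModule
  have hsup : topologicalKrullDim (CohB1.support (Coh.structureModule X)) ≤ n := dim_support_le hn _
  obtain ⟨P, hP, hPe⟩ := Groth.Agent.S1528.result k X (Coh.structureModule X) hO n hsup 3 ![A, B, L] (by
    intro i
    fin_cases i
    · exact hA
    · exact hB
    · exact hL)
  have key : ∀ (a b : ℕ) (T : X.Modules) (hT : Coh.IsCoh T) (hmc : mc T = mc A ^ a * mc B ^ b),
      hp k L T = ev3 P a b := by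
    intro a b T hT hmc
    refine (eq_hp k fun m => ?_).symm
    rw [eval_ev3]
    have h2 := hPe ![a, b, m]
    have h3 : (fun i => ((![a, b, m] : Fin 3 → ℕ) i : ℚ)) = ![(a : ℚ), b, m] := by
      funext i
      fin_cases i <;> rfl
    rw [h3] at h2
    rw [← h2]
    have e : Nonempty (twist X L T m ≅ Curv2.tensorPows (Coh.structureModule X) 3 ![A, B, L] ![a, b, m]) := by
      rw [← mc_eq_iff, twist, mc_tensor, mc_tensorPow, Groth.Agent.Fga.SnapperTwist.mc_tensorPows, hmc,
        Fin.prod_univ_three]
      simp [mc_one, mul_assoc]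
    obtain ⟨e⟩ := e
    rw [euler_iso k e (isCoh_twist hL hT m)]
  have h00 := key 0 0 (Coh.structureModule X) hO (by rw [pow_zero, pow_zero, mul_one, mc_one])
  have h10 := key 1 0 A (isCoh_of_isInvertible hA) (by rw [pow_zero, pow_one, mul_one])
  have h01 := key 0 1 B (isCoh_of_isInvertible hB) (by rw [pow_zero, pow_one, one_mul])
  have h11 := key 1 1 C (isCoh_of_isInvertible hC) (by rw [pow_one, pow_one, h])
  have h4 := coeff_ev3_add h1 P hP
  rw [h00, h10, h01, h11]
  simp only [alpha, Nat.cast_zero, Nat.cast_one]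
  rw [← mul_add, ← mul_add, h4]

end K848.DegAdd
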