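import Groth.Agent.ShStab.K848.Wedge
import Groth.Agent.ShStab.K848.DegAdd
import Groth.Agent.Variety.K420.DetDeg
import Groth.Agent.Krr.H495.ExtExist
import Groth.Agent.Sga67.TwistOver
import Groth.Agent.Sga2.LefPow644

/-!
# Rank one pieces of submodules of locally free modules and maps to exterior powers
-/

set_option autoImplicit false
universe u
open CategoryTheory CategoryTheory.Limits AlgebraicGeometry Opposite TopologicalSpace Polynomial
open scoped TensorProduct

namespace K848.Flag

open Groth.Agent.Fga.PicMon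
open ShStab StabCat
open Groth.Agent.CycB.StalkExact Groth.Agent.Divis.StalkMod
open Groth.Agent.Sga67.Sec Groth.Agent.Sga67.LocBasis Groth.Agent.Sga67.LocBasisStalk Groth.Agent.Sga67.ExtSheaf
open K848.Rank K848.Hull K848.Poly K848.HB K848.TF K848.Dim K848.Stab K848.Hartogs K848.PicOne K848.Extn K848.Hull2
open K848.Slope K848.DegAdd
open K321.Satur

variable {X : Scheme.{u}}

theorem appS_rmap (M : X.Modules) {N N' : X.Modules} (g : N ⟶ N') (U : X.Opens)
    (t : Sec N U ⊗[Γ(X, U)] Sec M U) :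
    appS ((DCoh.tensorRightMod M).map g) U (tau N M U t) =
      tau N' M U (TensorProduct.map (appS g U) LinearMap.id t) := by
  exact eta_naturality (P := CohB1.tensorPre N M) (Q := CohB1.tensorPre N' M)
    (MonoidalCategory.whiskerRight (C := CohB1.PMod X) (toPHom g) (CohB1.toPMod M)) U t

theorem appS_rmap_comp {M F F' G : X.Modules} (g : F ⟶ F') (h : CohB1.tensorMod F' M ⟶ G) (U : X.Opens)
    (a : Sec F U) (m : Sec M U) :
    appS (M := CohB1.tensorMod F M) ((DCoh.tensorRightMod M).map g ≫ h) U (tau F M U (a ⊗ₜ[Γ(X, U)] m)) =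
      appS h U (tau F' M U (appS g U a ⊗ₜ[Γ(X, U)] m)) := by
  change appS h U (appS ((DCoh.tensorRightMod M).map g) U (tau F M U (a ⊗ₜ[Γ(X, U)] m))) = _
  rw [appS_rmap]
  rfl

theorem appS_tmap_comp {E M N G : X.Modules} (ω : M ⟶ N) (μ : CohB1.tensorMod E N ⟶ G) (U : X.Opens)
    (a : Sec E U) (m : Sec M U) :
    appS (tmap E ω ≫ μ) U (tau E M U (a ⊗ₜ[Γ(X, U)] m)) = appS μ U (tau E N U (a ⊗ₜ[Γ(X, U)] appS ω U m)) := by
  change appS μ U (appS (tmap E ω) U (tau E M U (a ⊗ₜ[Γ(X, U)] m))) = _
  rw [appS_tmap]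
  rfl

theorem stalk_eq_zero {F M G : X.Modules} (f : CohB1.tensorMod F M ⟶ G) (x : X)
    (h : ∀ (V : X.affineOpens) (hx : x ∈ V.1) (a : Sec F V.1) (m : Sec M V.1),
      ger G x hx (appS f V.1 (tau F M V.1 (a ⊗ₜ[Γ(X, V.1)] m))) = 0) : stalkLin f x = 0 := by
  ext q
  obtain ⟨U, hU, s, rfl⟩ := exists_ger (CohB1.tensorMod F M) x q
  obtain ⟨V, hV, hxV, t, ht⟩ := tau_locsurj F M s x hU
  obtain ⟨_, ⟨W, rfl⟩, hxW, hW⟩ := Opens.isBasis_iff_nbhd.mp (affineBasis X) hxV
  have h1 : ger (CohB1.tensorMod F M) x hU s = ger (CohB1.tensorMod F M) x hxW (tau F M W.1 (tres F M hW t)) := by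
    rw [tau_tres, ht, ger_res, ger_res]
  rw [h1, stalkLin_ger]
  generalize tres F M hW t = t'
  change _ = 0
  induction t' using TensorProduct.induction_on with
  | zero => rw [map_zero, map_zero, ger_zero]
  | tmul a m => exact h W hxW a m
  | add a b ha hb => rw [map_add, map_add, ger_add, ha, hb, add_zero]

section Alg

variable {K W : Type*} [CommRing K] [AddCommGroup W] [Module K W]

theorem ι_mul_ιMulti_eq_zero {i : ℕ} (v : Fin i → W) {w : W} (hw : w ∈ Submodule.span K (Set.range v)) :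
    ExteriorAlgebra.ι K w * ExteriorAlgebra.ιMulti K i v = 0 := by
  induction hw using Submodule.span_induction with
  | mem x hx =>
    obtain ⟨j, rfl⟩ := hx
    have h1 := ExteriorAlgebra.ιMulti_succ_apply (R := K) (Fin.cons (v j) v : Fin (i + 1) → W)
    have h2 : Matrix.vecTail (Fin.cons (v j) v : Fin (i + 1) → W) = v := rfl
    have h3 : (Fin.cons (v j) v : Fin (i + 1) → W) 0 = v j := rfl
    rw [h2, h3] at h1
    rw [← h1]
    refine AlternatingMap.map_eq_zero_of_eq _ _ (i := 0) (j := j.succ) ?_ (Fin.succ_ne_zero j).symm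
    simp
  | zero => rw [map_zero, zero_mul]
  | add x y _ _ hx hy => rw [map_add, add_mul, hx, hy, add_zero]
  | smul a x _ hx => rw [map_smul, smul_mul_assoc, hx, smul_zero]

theorem ιMulti_ne_zero {K W : Type*} [Field K] [AddCommGroup W] [Module K W] {i : ℕ} {v : Fin i → W}
    (hv : LinearIndependent K v) : exteriorPower.ιMulti K i v ≠ 0 := by
  have h1 := exteriorPower.ιMulti_family_linearIndependent_field (n := i) hv
  have h2 := h1.ne_zero (K420.DetDeg.full i)
  rwa [K420.DetDeg.family_full] at h2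

end Alg

/-- the wedge product on stalks -/
theorem ev_wedge {E N N' : X.Modules} {i : ℕ} (Φ : Phi i E N) (Φ' : Phi (i + 1) E N') (x : X)
    (ev : N.presheaf.stalk x →ₗ[X.presheaf.stalk x] ⋀[X.presheaf.stalk x]^i (E.presheaf.stalk x))
    (hev : ∀ (U : X.affineOpens) (hx : x ∈ U.1) (w : Fin i → Sec E U.1),
        ev (ger N x hx ((Φ U).symm (exteriorPower.ιMulti _ i w))) =
          exteriorPower.ιMulti (X.presheaf.stalk x) i (fun j => ger E x hx (w j)))
    (ev' : N'.presheaf.stalk x →ₗ[X.presheaf.stalk x] ⋀[X.presheaf.stalk x]^(i + 1) (E.presheaf.stalk x))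
    (hev' : ∀ (U : X.affineOpens) (hx : x ∈ U.1) (w : Fin (i + 1) → Sec E U.1),
        ev' (ger N' x hx ((Φ' U).symm (exteriorPower.ιMulti _ (i + 1) w))) =
          exteriorPower.ιMulti (X.presheaf.stalk x) (i + 1) (fun j => ger E x hx (w j)))
    (μ : CohB1.tensorMod E N ⟶ N')
    (hμ : ∀ (U : X.affineOpens) (x : Sec E U.1) (w : Fin i → Sec E U.1),
      appS μ U.1 (tau E N U.1 (x ⊗ₜ[Γ(X, U.1)] (Φ U).symm (exteriorPower.ιMulti _ i w))) =
        (Φ' U).symm (exteriorPower.ιMulti _ (i + 1) (Fin.cons x w)))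
    (U : X.affineOpens) (hx : x ∈ U.1) (a : Sec E U.1) (s : Sec N U.1) :
    (ev' (ger N' x hx (appS μ U.1 (tau E N U.1 (a ⊗ₜ[Γ(X, U.1)] s)))) :
      ExteriorAlgebra (X.presheaf.stalk x) (E.presheaf.stalk x)) =
      ExteriorAlgebra.ι (X.presheaf.stalk x) (ger E x hx a) *
        (ev (ger N x hx s) : ExteriorAlgebra (X.presheaf.stalk x) (E.presheaf.stalk x)) := by
  refine phi_induction Φ U (C := fun s => (ev' (ger N' x hx (appS μ U.1 (tau E N U.1 (a ⊗ₜ[Γ(X, U.1)] s)))) :
      ExteriorAlgebra (X.presheaf.stalk x) (E.presheaf.stalk x)) =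
      ExteriorAlgebra.ι (X.presheaf.stalk x) (ger E x hx a) *
        (ev (ger N x hx s) : ExteriorAlgebra (X.presheaf.stalk x) (E.presheaf.stalk x))) ?_ ?_ ?_ ?_ s
  · rw [TensorProduct.tmul_zero, map_zero, map_zero, ger_zero, ger_zero, map_zero, map_zero]
    simp
  · intro s t hs ht
    rw [TensorProduct.tmul_add, map_add, map_add, ger_add, ger_add, map_add, map_add, Submodule.coe_add,
      Submodule.coe_add, hs, ht, mul_add]
  · intro r s hs
    rw [TensorProduct.tmul_smul, map_smul, map_smul, ger_smul, ger_smul, map_smul, map_smul, Submodule.coe_smul,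
      Submodule.coe_smul, hs, mul_smul_comm]
  · intro w
    rw [hμ, hev', hev, exteriorPower.ιMulti_apply_coe, exteriorPower.ιMulti_apply_coe,
      ExteriorAlgebra.ιMulti_succ_apply]
    rfl

section Gsub

variable [IsIntegral X] {E : X.Modules}
    (W : Submodule (X.presheaf.stalk (genericPoint X)) (E.presheaf.stalk (genericPoint X)))

theorem range_gsub : LinearMap.range (stalkLin (gsub E W).ι (genericPoint X)) = W := by
  ext e
  obtain ⟨U, -, hxU, s, rfl⟩ := Groth.Agent.Ega1.ModGerm.exists_germ (M := E) e (U := ⊤) trivial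
  exact mem_range_stalk_iff W hxU s

theorem exists_lift_gsub {F : X.Modules} (f : F ⟶ E)
    (h : LinearMap.range (stalkLin f (genericPoint X)) ≤ W) : ∃ a : F ⟶ (gsub E W).toModules, a ≫ (gsub E W).ι = f := by
  obtain ⟨a, ha⟩ := Groth.Agent.Ega1.SubSheaf.exists_lift f (gsub E W).ι (fun U s => by
    rw [← Groth.Agent.Ega1.SubSheaf.Sub.mem_iff_exists]
    intro hx
    exact h ⟨Groth.Agent.Ega1.ModGerm.germ F U _ hx s, stalkLin_germ f (genericPoint X) hx s⟩)
  exact ⟨a, ha⟩

end Gsub

section Main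

variable [IsIntegral X]

/-- quotient of `gsub W'` by `gsub W` -/
theorem exists_quot {E : X.Modules}
    {W W' : Submodule (X.presheaf.stalk (genericPoint X)) (E.presheaf.stalk (genericPoint X))} (hW : W ≤ W') :
    ∃ j : (gsub E W).toModules ⟶ (gsub E W').toModules, Mono j ∧ j ≫ (gsub E W').ι = (gsub E W).ι ∧
      TorSh.IsTorsionFree (cokernel j) := by
  obtain ⟨j, hj⟩ := exists_lift_gsub W' (gsub E W).ι (by rw [range_gsub]; exact hW)
  have hjm : Mono j := by
    have : Mono (j ≫ (gsub E W').ι) := by rw [hj]; infer_instance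
    exact mono_of_mono j (gsub E W').ι
  refine ⟨j, hjm, hj, ?_⟩
  have hp : IsPullback j (𝟙 _) (gsub E W').ι (gsub E W).ι := by
    refine ⟨⟨by rw [Category.id_comp, hj]⟩, ⟨PullbackCone.IsLimit.mk _ (fun s => s.snd) ?_ ?_ ?_⟩⟩
    · intro s
      rw [← cancel_mono (gsub E W').ι, Category.assoc, hj]
      exact s.condition.symm
    · intro s
      rw [Category.comp_id]
    · intro s m h1 h2
      rw [← h2, Category.comp_id]
  exact @isTorsionFree_of_mono _ _ _ _ (Abelian.mono_cokernel_map_of_isPullback hp)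
    (torsionFree_cokernel_gsub (E := E) W)

variable (k : Type u) [Field k] [X.Over (Spec (CommRingCat.of k))]
  [IsProper (X ↘ Spec (CommRingCat.of k))] {L : X.Modules} {n : ℕ}

/-- For a family of independent vectors `v` of the generic stalk of `E`: an invertible module with a map to the
exterior power whose image is the line of `v_1 ∧ ⋯ ∧ v_i`, of the degree of the saturated submodule spanned by `v` -/
theorem exists_line (hL : CohB1.IsAmple L) (hn : topologicalKrullDim X = n) (h1 : 1 ≤ n)
    (hreg : ∀ x : X, IsRegularLocalRing (X.presheaf.stalk x)) {E : X.Modules} (hEc : Coh.IsCoh E)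
    (_hE : FlatMod.IsFinLocFree E) (N : ℕ → X.Modules) (hN : ∀ i, FlatMod.IsFinLocFree (N i))
    (Φ : ∀ i, Phi i E (N i)) (hΦ : ∀ i, PhiComp (Φ i))
    (ev : ∀ i, (N i).presheaf.stalk (genericPoint X) →ₗ[X.presheaf.stalk (genericPoint X)]
      ⋀[X.presheaf.stalk (genericPoint X)]^i (E.presheaf.stalk (genericPoint X)))
    (hinj : ∀ i, Function.Injective (ev i))
    (hev : ∀ (i : ℕ) (U : X.affineOpens) (hx : genericPoint X ∈ U.1) (w : Fin i → Sec E U.1),
        ev i (ger (N i) (genericPoint X) hx ((Φ i U).symm (exteriorPower.ιMulti _ i w))) =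
          exteriorPower.ιMulti (X.presheaf.stalk (genericPoint X)) i (fun j => ger E (genericPoint X) hx (w j))) :
    ∀ (i : ℕ) (v : Fin i → E.presheaf.stalk (genericPoint X)),
      LinearIndependent (X.presheaf.stalk (genericPoint X)) v →
      ∃ (M : X.Modules) (_ : PicF.IsInvertible M) (ω : M ⟶ N i) (p : M.presheaf.stalk (genericPoint X)),
        ev i (stalkLin ω (genericPoint X) p) = exteriorPower.ιMulti (X.presheaf.stalk (genericPoint X)) i v ∧
        alpha (n - 1) (hp k L M) - alpha (n - 1) (hp k L (Coh.structureModule X)) =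
          alpha (n - 1) (hp k L (gsub E (Submodule.span (X.presheaf.stalk (genericPoint X)) (Set.range v))).toModules) -
            i * alpha (n - 1) (hp k L (Coh.structureModule X)) := by
  have := Groth.Agent.Fga.SnapperTwist.isNoetherian_of_proper k X
  let K := X.presheaf.stalk (genericPoint X)
  let _ : Field (X.presheaf.stalk (genericPoint X)) := inferInstanceAs (Field X.functionField)
  have hEt : TorSh.IsTorsionFree E := isTorsionFree_of_isFinLocFree _hE
  have hfin := finite_stalk hEc (genericPoint X)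
  have hgrk : ∀ W : Submodule (X.presheaf.stalk (genericPoint X)) (E.presheaf.stalk (genericPoint X)),
      rk (gsub E W).toModules = Module.finrank (X.presheaf.stalk (genericPoint X)) W := fun W => rk_gsub W
  intro i
  induction i with
  | zero =>
    intro v hv
    obtain ⟨ω, hω⟩ := K420.DetDeg.exists_wedge (hΦ 0) (fun j => j.elim0)
    obtain ⟨_, ⟨U, rfl⟩, hxU, -⟩ := Opens.isBasis_iff_nbhd.mp (affineBasis X)
      (show genericPoint X ∈ (⊤ : X.Opens) from trivial)
    refine ⟨Coh.structureModule X, Groth.Agent.Fdesc.LocGen.isInvertible_structureModule, ω,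
      ger _ (genericPoint X) hxU (one X U.1), ?_, ?_⟩
    · rw [stalkLin_ger, hω U, hev]
      congr 1
      exact Subsingleton.elim _ _
    · have h2 : Submodule.span (X.presheaf.stalk (genericPoint X)) (Set.range v) = ⊥ := by
        rw [Submodule.span_eq_bot]
        rintro x ⟨j, -⟩
        exact j.elim0
      have hc : Coh.IsCoh (gsub E (⊥ : Submodule (X.presheaf.stalk (genericPoint X))
          (E.presheaf.stalk (genericPoint X)))).toModules := isCoh_gsub _ hEc
      have h3 : IsZero (gsub E (⊥ : Submodule (X.presheaf.stalk (genericPoint X))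
          (E.presheaf.stalk (genericPoint X)))).toModules :=
        isZero_of_rk hc (isTorsionFree_of_mono (gsub E _).ι hEt) (by rw [hgrk, finrank_bot])
      rw [h2, hp_isZero k hL.1 h3, sub_self]
      simp [alpha]
  | succ i ih =>
    intro v hv
    have hvt : LinearIndependent (X.presheaf.stalk (genericPoint X)) (Fin.tail v) :=
      hv.comp Fin.succ (Fin.succ_injective i)
    obtain ⟨M, hM, ω, p, hp1, hdeg⟩ := ih (Fin.tail v) hvt
    have hMc := isCoh_of_isInvertible hM
    have hMr := rk_structureModule_of_isInvertible hM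
    have hWle : Submodule.span (X.presheaf.stalk (genericPoint X)) (Set.range (Fin.tail v)) ≤
        Submodule.span (X.presheaf.stalk (genericPoint X)) (Set.range v) := by
      apply Submodule.span_mono
      rintro _ ⟨j, rfl⟩
      exact ⟨j.succ, rfl⟩
    let Ft := (gsub E (Submodule.span (X.presheaf.stalk (genericPoint X)) (Set.range (Fin.tail v)))).toModules
    let Fv := (gsub E (Submodule.span (X.presheaf.stalk (genericPoint X)) (Set.range v))).toModules
    let it : Ft ⟶ E := (gsub E (Submodule.span (X.presheaf.stalk (genericPoint X)) (Set.range (Fin.tail v)))).ι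
    let iv : Fv ⟶ E := (gsub E (Submodule.span (X.presheaf.stalk (genericPoint X)) (Set.range v))).ι
    obtain ⟨j, hjm, hjt, hQt⟩ : ∃ j : Ft ⟶ Fv, Mono j ∧ j ≫ iv = it ∧ TorSh.IsTorsionFree (cokernel j) :=
      exists_quot hWle
    have hFtc : Coh.IsCoh Ft := isCoh_gsub _ hEc
    have hFvc : Coh.IsCoh Fv := isCoh_gsub _ hEc
    have hFtr : rk Ft = i := by
      refine (hgrk _).trans ?_
      rw [finrank_span_eq_card hvt, Fintype.card_fin]
    have hFvr : rk Fv = i + 1 := by
      refine (hgrk _).trans ?_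
      rw [finrank_span_eq_card hv, Fintype.card_fin]
    have hQc : Coh.IsCoh (cokernel j) := Groth.Agent.PerfA.CohSerre.isCoh_cokernel j hFtc.1 hFvc
    have hS : (ShortComplex.mk j (cokernel.π j) (cokernel.condition j)).ShortExact :=
      { exact := ShortComplex.exact_cokernel j, mono_f := inferInstance, epi_g := inferInstance }
    have hrS := rk_shortExact hS hFvc
    have hpS := hp_add k hL.1 hS hFtc hFvc hQc
    dsimp only at hrS hpS
    have hQr : rk (cokernel j) = 1 := by omega
    obtain ⟨L', hL', φ, U, hφ, hU, hbij, hcod⟩ := exists_hull hreg hQc hQt hQr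
    have hαQ : alpha (n - 1) (hp k L (cokernel j)) = alpha (n - 1) (hp k L L') :=
      alpha_pred_eq k hL.1 hn φ hQc (isCoh_of_isInvertible hL') hcod
    -- the functor
    obtain ⟨M', hM', ⟨e1⟩⟩ := Groth.Agent.Grpsch.PicGrp.exists_inverse hM
    have hequiv := Groth.Agent.Sga2.LefPow644.isEquivalence_of_inv e1
    let R := DCoh.tensorRightMod M
    have hRadd : R.Additive := inferInstance
    obtain ⟨μ, hμ⟩ := Groth.Agent.Krr.H463.Wedge.exists_wedge (Φ i) (hΦ i) (Φ (i + 1)) (hΦ (i + 1))
    let g : R.obj Fv ⟶ N (i + 1) := R.map iv ≫ tmap E ω ≫ μ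
    have hg : ∀ (V : X.affineOpens) (hx : genericPoint X ∈ V.1) (a : Sec Fv V.1) (m : Sec M V.1),
        (ev (i + 1) (ger (N (i + 1)) (genericPoint X) hx (appS g V.1 (tau Fv M V.1 (a ⊗ₜ[Γ(X, V.1)] m)))) :
          ExteriorAlgebra (X.presheaf.stalk (genericPoint X)) (E.presheaf.stalk (genericPoint X))) =
        ExteriorAlgebra.ι (X.presheaf.stalk (genericPoint X)) (stalkLin iv _ (ger Fv (genericPoint X) hx a)) *
          (ev i (stalkLin ω _ (ger M (genericPoint X) hx m)) :
            ExteriorAlgebra (X.presheaf.stalk (genericPoint X)) (E.presheaf.stalk (genericPoint X))) := by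
      intro V hx a m
      have h2 : appS g V.1 (tau Fv M V.1 (a ⊗ₜ[Γ(X, V.1)] m)) =
          appS μ V.1 (tau E (N i) V.1 ((appS iv V.1 a) ⊗ₜ[Γ(X, V.1)] (appS ω V.1 m))) :=
        (appS_rmap_comp iv (tmap E ω ≫ μ) V.1 a m).trans (appS_tmap_comp ω μ V.1 (appS iv V.1 a) m)
      rw [h2, ev_wedge (Φ i) (Φ (i + 1)) (genericPoint X) (ev i) (hev i) (ev (i + 1)) (hev (i + 1)) μ hμ V hx,
        stalkLin_ger, stalkLin_ger]
    -- multiples of `p`
    have hp0 : p ≠ 0 := by
      rintro rfl
      rw [map_zero, map_zero] at hp1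
      exact ιMulti_ne_zero hvt hp1.symm
    have hmul : ∀ q : M.presheaf.stalk (genericPoint X), ∃ c : X.presheaf.stalk (genericPoint X), c • p = q :=
      (finrank_eq_one_iff_of_nonzero' p hp0).1 hMr
    have hzero : R.map j ≫ g = 0 := by
      refine eq_zero_of_generic (Groth.Agent.PerfA.CohSerre.isCoh_of_isFinLocFree (hN (i + 1))).1 (isTorsionFree_of_isFinLocFree (hN (i + 1))) _
        (stalk_eq_zero _ _ fun V hx a m => ?_)
      have h2 : appS (R.map j ≫ g) V.1 (tau Ft M V.1 (a ⊗ₜ[Γ(X, V.1)] m)) =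
          appS g V.1 (tau Fv M V.1 (appS j V.1 a ⊗ₜ[Γ(X, V.1)] m)) := appS_rmap_comp j g V.1 a m
      refine (congrArg (ger (N (i + 1)) (genericPoint X) hx) h2).trans ?_
      apply hinj (i + 1)
      rw [map_zero]
      apply Subtype.ext
      rw [hg V hx]
      obtain ⟨c, hc⟩ := hmul (ger M (genericPoint X) hx m)
      rw [← hc, map_smul, map_smul, hp1, Submodule.coe_smul, exteriorPower.ιMulti_apply_coe, mul_smul_comm,
        ι_mul_ιMulti_eq_zero, smul_zero]
      · rfl
      · rw [← range_gsub (Submodule.span (X.presheaf.stalk (genericPoint X)) (Set.range (Fin.tail v)))]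
        refine ⟨ger Ft (genericPoint X) hx a, ?_⟩
        change stalkLin it _ _ = _
        rw [← hjt, stalkLin_ger, stalkLin_ger, appS_comp]
    have hR := hS.map_of_exact R
    have hRe := hR.epi_g
    let g' : R.obj (cokernel j) ⟶ N (i + 1) := hR.exact.desc g hzero
    have hg' : R.map (cokernel.π j) ≫ g' = g := hR.exact.g_desc g hzero
    have hG : FlatMod.IsFinLocFree (CohB1.tensorMod (N (i + 1)) M') :=
      Groth.Agent.Sga67.LocBasis.isFinLocFree_tensorMod (hN (i + 1)) (isFinLocFree_of_isInvertible hM')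
    obtain ⟨e3⟩ : Nonempty (R.obj (CohB1.tensorMod (N (i + 1)) M') ≅ N (i + 1)) := by
      rw [← mc_eq_iff]
      change mc (CohB1.tensorMod (CohB1.tensorMod (N (i + 1)) M') M) = _
      have h2 : mc M * mc M' = 1 := by
        rw [← mc_tensor, ← mc_one]
        exact mc_eq e1
      rw [mc_tensor, mc_tensor, mul_assoc, mul_comm (mc M'), h2, mul_one]
    obtain ⟨ψ, hψ⟩ := exists_factor (isIntegrallyClosed_of_regular hreg) hU φ hbij (Groth.Agent.PerfA.CohSerre.isCoh_of_isFinLocFree hG) hG
      (R.preimage (g' ≫ e3.inv))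
    let ω' : R.obj L' ⟶ N (i + 1) := R.map ψ ≫ e3.hom
    have hω' : R.map (cokernel.π j ≫ φ) ≫ ω' = g := by
      change R.map (cokernel.π j ≫ φ) ≫ R.map ψ ≫ e3.hom = g
      rw [← Category.assoc, ← Functor.map_comp, Category.assoc, hψ, Functor.map_comp, Functor.map_preimage,
        Category.assoc, Category.assoc, e3.inv_hom_id, Category.comp_id, hg']
    -- the vector
    have hv0 : v 0 ∈ LinearMap.range (stalkLin iv (genericPoint X)) := by
      rw [range_gsub]
      exact Submodule.subset_span ⟨0, rfl⟩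
    obtain ⟨a, ha⟩ := hv0
    obtain ⟨U1, hU1, a1, ha1⟩ := exists_ger Fv (genericPoint X) a
    obtain ⟨U2, hU2, m1, hm1⟩ := exists_ger M (genericPoint X) p
    obtain ⟨_, ⟨V, rfl⟩, hxV, hV⟩ := Opens.isBasis_iff_nbhd.mp (affineBasis X)
      (show genericPoint X ∈ U1 ⊓ U2 from ⟨hU1, hU2⟩)
    let a' : Sec Fv V.1 := res Fv (hV.trans inf_le_left) a1
    let m' : Sec M V.1 := res M (hV.trans inf_le_right) m1
    have ha' : ger Fv (genericPoint X) hxV a' = a := by rw [ger_res, ha1]
    have hm' : ger M (genericPoint X) hxV m' = p := by rw [ger_res, hm1]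
    have hinv : PicF.IsInvertible (CohB1.tensorMod L' M) := Groth.Agent.Fdesc.LocGen.isInvertible_tensorMod hL' hM
    have h5 : stalkLin ω' (genericPoint X) (ger (R.obj L') (genericPoint X) hxV
        (appS (R.map (cokernel.π j ≫ φ)) V.1 (tau Fv M V.1 (a' ⊗ₜ[Γ(X, V.1)] m')))) =
        ger (N (i + 1)) (genericPoint X) hxV (appS g V.1 (tau Fv M V.1 (a' ⊗ₜ[Γ(X, V.1)] m'))) :=
      (stalkLin_ger ω' (genericPoint X) hxV _).trans (congrArg (ger (N (i + 1)) (genericPoint X) hxV)
        (congrArg (fun f : R.obj Fv ⟶ N (i + 1) => appS f V.1 (tau Fv M V.1 (a' ⊗ₜ[Γ(X, V.1)] m'))) hω'))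
    refine ⟨R.obj L', hinv, ω', ger (R.obj L') (genericPoint X) hxV
      (appS (R.map (cokernel.π j ≫ φ)) V.1 (tau Fv M V.1 (a' ⊗ₜ[Γ(X, V.1)] m'))), ?_, ?_⟩
    · refine (congrArg (ev (i + 1)) h5).trans ?_
      apply Subtype.ext
      rw [hg V hxV, ha', hm', ha, hp1, exteriorPower.ιMulti_apply_coe, exteriorPower.ιMulti_apply_coe,
        ExteriorAlgebra.ιMulti_succ_apply]
      rfl
    · have h2 := deg_tensor k hL.1 hn h1 hL' hM hinv (mc_tensor L' M)
      have h3 : alpha (n - 1) (hp k L Fv) = alpha (n - 1) (hp k L Ft) + alpha (n - 1) (hp k L (cokernel j)) := by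
        rw [hpS, alpha_add]
      change alpha (n - 1) (hp k L (CohB1.tensorMod L' M)) - _ = alpha (n - 1) (hp k L Fv) - _
      push_cast
      linarith

end Main

end K848.Flag
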