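import Groth.Prelude.Def_TorSh
import Groth.Prelude.Def_CohB1
import Groth.Agent.CycB.CohStalk
import Groth.Agent.VarietyB.ExactLoc
import Mathlib.AlgebraicGeometry.FunctionField

/-!
# Torsion-free modules on an integral scheme, through the generic stalk
-/

set_option autoImplicit false
universe u
open CategoryTheory CategoryTheory.Limits AlgebraicGeometry Opposite TopologicalSpace

namespace K848.TF

open Groth.Agent.CycB.StalkExact Groth.Agent.CycB.CohStalk Groth.Agent.VarietyB.ExactLoc

variable {X : Scheme.{u}}

/-- the generic point specializes to every point -/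
theorem gen [IsIntegral X] (x : X) : genericPoint X ⤳ x := genericPoint_specializes x

theorem stalk_injective [IsIntegral X] (x : X) :
    Function.Injective (X.presheaf.stalkSpecializes (gen x)).hom := by
  rw [injective_iff_map_eq_zero]
  intro a ha
  obtain ⟨U, hxU, s, rfl⟩ := X.presheaf.exists_germ_eq a
  have hηU : genericPoint X ∈ U := (gen x).mem_open U.isOpen hxU
  have h1 : X.presheaf.germ U (genericPoint X) hηU s = 0 := by
    have h2 : (X.presheaf.stalkSpecializes (gen x)).hom (X.presheaf.germ U x hxU s) =
      X.presheaf.germ U _ hηU s := TopCat.Presheaf.germ_stalkSpecializes_apply X.presheaf hxU (gen x) s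
    rw [← h2]; exact ha
  have h3 : s = 0 := by
    have : Nonempty U := ⟨⟨x, hxU⟩⟩
    apply germ_injective_of_isIntegral X _ hηU
    rw [h1, map_zero]
  rw [h3, map_zero]

/-- stalks of a torsion-free quasi-coherent module embed in the generic stalk -/
theorem spec_injective [IsIntegral X] {F : X.Modules} (hF : Coh.IsQCoh F) (htf : TorSh.IsTorsionFree F)
    (x : X) : Function.Injective (F.presheaf.stalkSpecializes (gen x)) := by
  rw [injective_iff_map_eq_zero]
  intro m hm
  obtain ⟨a, ha, ham⟩ := exists_smul_eq_zero F hF (gen x) m hm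
  have := htf x
  rcases smul_eq_zero.mp ham with h | h
  · exfalso
    apply ha
    rw [h]
    exact Ideal.zero_mem _
  · exact h

/-- conversely -/
theorem isTorsionFree_of_spec_injective [IsIntegral X] {F : X.Modules}
    (h : ∀ x : X, Function.Injective (F.presheaf.stalkSpecializes (gen x))) : TorSh.IsTorsionFree F := by
  intro x
  refine Module.IsTorsionFree.of_smul_eq_zero ?_
  intro a m ham
  by_cases ha : a = 0
  · exact Or.inl ha
  right
  apply h x
  rw [map_zero]
  have h1 : F.presheaf.stalkSpecializes (gen x) (a • m) =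
      (X.presheaf.stalkSpecializes (gen x)).hom a • F.presheaf.stalkSpecializes (gen x) m :=
    Groth.Agent.CycB.ModStalk.stalkSpecializes_smul (gen x) a m
  rw [ham, map_zero] at h1
  have h2 : (X.presheaf.stalkSpecializes (gen x)).hom a ≠ 0 := by
    intro h3
    apply ha
    apply stalk_injective x
    rw [h3, map_zero]
  have h3 : IsUnit ((X.presheaf.stalkSpecializes (gen x)).hom a) := by
    have hf : IsField (X.presheaf.stalk (genericPoint X)) := Field.toIsField X.functionField
    obtain ⟨b, hb⟩ := hf.mul_inv_cancel h2
    exact IsUnit.of_mul_eq_one b hb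
  exact (h3.smul_eq_zero).1 h1.symm

theorem isTorsionFree_of_mono {F G : X.Modules} (φ : F ⟶ G) [Mono φ] (hG : TorSh.IsTorsionFree G) :
    TorSh.IsTorsionFree F := by
  intro x
  have := hG x
  exact (stalkLin_injective φ x).moduleIsTorsionFree (stalkLin φ x) (fun a m => map_smul _ a m)

/-- naturality of specialization -/
theorem stalkLin_spec {F G : X.Modules} (φ : F ⟶ G) {x y : X} (h : x ⤳ y) (m : F.presheaf.stalk y) :
    stalkLin φ x (F.presheaf.stalkSpecializes h m) = G.presheaf.stalkSpecializes h (stalkLin φ y m) := by
  obtain ⟨U, hyU, s, rfl⟩ := F.presheaf.exists_germ_eq m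
  have hxU : x ∈ U := h.mem_open U.isOpen hyU
  have h1 : F.presheaf.stalkSpecializes h (F.presheaf.germ U y hyU s) = F.presheaf.germ U x hxU s :=
    TopCat.Presheaf.germ_stalkSpecializes_apply F.presheaf hyU h s
  have h2 : G.presheaf.stalkSpecializes h (G.presheaf.germ U y hyU (φ.app U s)) =
      G.presheaf.germ U x hxU (φ.app U s) :=
    TopCat.Presheaf.germ_stalkSpecializes_apply G.presheaf hyU h (φ.app U s)
  rw [h1, stalkLin_germ, stalkLin_germ, h2]

/-- a map out of a torsion-free module which is injective at the generic point is a monomorphism -/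
theorem mono_of_generic [IsIntegral X] {F G : X.Modules} (hF : Coh.IsQCoh F) (htf : TorSh.IsTorsionFree F)
    (φ : F ⟶ G) (h : Function.Injective (stalkLin φ (genericPoint X))) : Mono φ := by
  refine mono_of_stalk φ fun x => ?_
  rw [injective_iff_map_eq_zero]
  intro m hm
  apply spec_injective hF htf x
  rw [map_zero]
  apply h
  rw [stalkLin_spec, hm, map_zero, map_zero]

theorem isZero_of_generic [IsIntegral X] {F : X.Modules} (hF : Coh.IsQCoh F) (htf : TorSh.IsTorsionFree F)
    (h : genericPoint X ∉ CohB1.support F) : IsZero F := by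
  rw [isZero_iff_stalk]
  intro x
  have h1 : Subsingleton (F.presheaf.stalk (genericPoint X)) := not_not.mp h
  exact (spec_injective hF htf x).subsingleton

/-- a map into a torsion-free module which is zero at the generic point is zero -/
theorem eq_zero_of_generic [IsIntegral X] {F G : X.Modules} (hG : Coh.IsQCoh G) (htf : TorSh.IsTorsionFree G)
    (φ : F ⟶ G) (h : stalkLin φ (genericPoint X) = 0) : φ = 0 := by
  ext U s
  change φ.app U s = 0
  refine eq_zero_of_germ _ fun x hx => ?_
  rw [← stalkLin_germ]
  apply spec_injective hG htf x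
  rw [map_zero, ← stalkLin_spec, h]
  rfl

/-- extensions of torsion-free modules -/
theorem isTorsionFree_extension [IsIntegral X] {S : ShortComplex X.Modules} (hS : S.ShortExact)
    (h₁ : TorSh.IsTorsionFree S.X₁) (h₃ : TorSh.IsTorsionFree S.X₃) : TorSh.IsTorsionFree S.X₂ := by
  intro x
  have := hS.mono_f
  have h1 := h₁ x
  have h3 := h₃ x
  refine Module.IsTorsionFree.of_smul_eq_zero ?_
  intro a m ham
  by_cases ha : a = 0
  · exact Or.inl ha
  right
  have h4 : a • stalkLin S.g x m = 0 := by rw [← map_smul, ham, map_zero]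
  have h5 : stalkLin S.g x m = 0 := (smul_eq_zero.mp h4).resolve_left ha
  obtain ⟨n, rfl⟩ := (stalkLin_exact S hS.exact x m).1 h5
  have h6 : stalkLin S.f x (a • n) = 0 := by rw [map_smul, ham]
  have h7 : a • n = 0 := by
    apply stalkLin_injective S.f x
    rw [h6, map_zero]
  rw [(smul_eq_zero.mp h7).resolve_left ha, map_zero]

theorem isTorsionFree_iso {F G : X.Modules} (e : F ≅ G) (hF : TorSh.IsTorsionFree F) : TorSh.IsTorsionFree G :=
  isTorsionFree_of_mono e.inv hF

end K848.TF
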