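import Groth.Agent.ShStab.K848.Stab
import Groth.Prelude.Def_PicGrp

/-!
# Picard group generated by one class, twists and slopes; the slope-stability criterion
-/

set_option autoImplicit false
universe u
open CategoryTheory CategoryTheory.Limits AlgebraicGeometry Opposite TopologicalSpace Polynomial

namespace K848.PicOne

open Groth.Agent.Fga.PicMon Groth.Agent.Fga.ChiBasic Groth.Agent.Fga.SnapperTwist
open Groth.Agent.Fdesc ShStab StabCat
open K848.Rank K848.Hull K848.Poly K848.HB K848.TF K848.Dim K848.Stab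

section

variable {X : Scheme.{u}} [PicGrp.Law X] {L : X.Modules} (hL : PicF.IsInvertible L)

theorem mc_of_cls_eq_pow {M : X.Modules} (hM : PicF.IsInvertible M) (a : ℕ)
    (h : PicGrp.cls M hM = PicGrp.cls L hL ^ a) : mc M = mc L ^ a := by
  have h1 := congrArg Subtype.val h
  rw [PicGrp.cls_pow_val] at h1
  rw [← mc_tensorPow]
  exact h1

theorem mc_mul_of_cls_eq_inv {M : X.Modules} (hM : PicF.IsInvertible M) (a : ℕ)
    (h : PicGrp.cls M hM = (PicGrp.cls L hL ^ a)⁻¹) : mc M * mc L ^ a = 1 := by
  have h1 : PicGrp.cls M hM * PicGrp.cls L hL ^ a = 1 := by rw [h, inv_mul_cancel]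
  have h2 := congrArg Subtype.val h1
  rw [PicGrp.mul_val, PicGrp.cls_pow_val, PicGrp.one_val] at h2
  rw [← mc_tensorPow, ← mc_tensor, ← mc_one]
  exact h2

theorem cls_eq_of_mc {M N : X.Modules} (hM : PicF.IsInvertible M) (hN : PicF.IsInvertible N) (h : mc M = mc N) :
    PicGrp.cls M hM = PicGrp.cls N hN := Subtype.ext h

theorem exists_module (c : PicLoc.PicSet X) : ∃ (M : X.Modules) (hM : PicF.IsInvertible M), PicGrp.cls M hM = c := by
  obtain ⟨M, hM, h⟩ := PicGrp.exists_eq_cls c
  exact ⟨M, hM, h.symm⟩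

variable (k : Type u) [Field k] [X.Over (Spec (CommRingCat.of k))]
  [IsProper (X ↘ Spec (CommRingCat.of k))]

/-- twisting by a module whose class is `L ^ a`, `a ∈ ℤ` -/
theorem hp_of_cls {M : X.Modules} (hM : PicF.IsInvertible M) (a : ℤ)
    (h : PicGrp.cls M hM = PicGrp.cls L hL ^ a) {F G : X.Modules} (hF : Coh.IsCoh F) (hG : Coh.IsCoh G)
    (hmc : mc G = mc F * mc M) : hp k L G = shift a (hp k L F) := by
  obtain ⟨b, rfl | rfl⟩ := a.eq_nat_or_neg
  · rw [zpow_natCast] at h
    rw [mc_of_cls_eq_pow hL hM b h] at hmc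
    rw [hp_of_mc k hL hF hG b hmc]
    simp
  · rw [zpow_neg, zpow_natCast] at h
    have h1 := mc_mul_of_cls_eq_inv hL hM b h
    have h2 : mc F = mc G * mc L ^ b := by
      rw [hmc, mul_assoc, h1, mul_one]
    rw [hp_of_mc' k hL hF hG b h2]
    simp

theorem hp_invertible {M : X.Modules} (hM : PicF.IsInvertible M) (a : ℤ)
    (h : PicGrp.cls M hM = PicGrp.cls L hL ^ a) : hp k L M = shift a (hp k L (Coh.structureModule X)) :=
  hp_of_cls hL k hM a h isCoh_structureModule (isCoh_of_isInvertible hM) (by rw [mc_one, one_mul])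

/-- the subtop coefficient of an invertible module of class `L ^ a` -/
theorem alpha_pred_invertible {n : ℕ} (hn : topologicalKrullDim X = n) (h1 : 1 ≤ n) {M : X.Modules}
    (hM : PicF.IsInvertible M) (a : ℤ) (h : PicGrp.cls M hM = PicGrp.cls L hL ^ a) :
    alpha (n - 1) (hp k L M) = alpha (n - 1) (hp k L (Coh.structureModule X)) +
      a * alpha n (hp k L (Coh.structureModule X)) := by
  rw [hp_invertible hL k hM a h, alpha_shift_pred (natDegree_le k hL hn isCoh_structureModule) h1]

end

section Mu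

variable (k : Type u) [Field k] {X : Scheme.{u}} [X.Over (Spec (CommRingCat.of k))]
  [IsProper (X ↘ Spec (CommRingCat.of k))] [IsIntegral X] {L : X.Modules} {n : ℕ}

theorem not_isZero_of_rk {E : X.Modules} (h : rk E ≠ 0) : ¬ IsZero E := by
  intro h0
  apply h
  rw [rk]
  have h1 : Subsingleton (E.presheaf.stalk (genericPoint X)) :=
    (Groth.Agent.VarietyB.ExactLoc.isZero_iff_stalk E).1 h0 _
  exact Module.finrank_zero_of_subsingleton

/-- slope-stability of a torsion-free module in terms of ranks and subtop coefficients -/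
theorem isMuStable_of (hL : CohB1.IsAmple L) (hn : topologicalKrullDim X = n) {E : X.Modules}
    (hE : Coh.IsCoh E) (hEt : TorSh.IsTorsionFree E) (hr : rk E ≠ 0)
    (H : ∀ (F : X.Modules) (ι : F ⟶ E), Mono ι → Coh.IsCoh F → 0 < rk F → rk F < rk E →
      alpha (n - 1) (hp k L F) * rk E < rk F * alpha (n - 1) (hp k L E)) :
    IsMuStable k X L E n := by
  have := isNoetherian_of_proper k X
  have hα := alpha_O_pos k hL hn
  refine ⟨hE, not_isZero_of_rk hr, dim_support_eq hn hE hr, ?_, ?_⟩
  · intro F ι hι hF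
    by_cases h0 : IsZero F
    · have h1 : CohB1.support F = ∅ := by
        ext x
        simp only [Set.mem_empty_iff_false, iff_false]
        intro hx
        exact hx ((Groth.Agent.VarietyB.ExactLoc.isZero_iff_stalk F).1 h0 x)
      have h2 : topologicalKrullDim (CohB1.support F) = ⊥ := by
        have : IsEmpty (CohB1.support F) := Set.isEmpty_coe_sort.2 h1
        have : IsEmpty (IrreducibleCloseds (CohB1.support F)) :=
          ⟨fun Z => isEmptyElim Z.isIrreducible.nonempty.some⟩
        exact Order.krullDim_eq_bot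
      rw [h2]
      exact WithBot.bot_ne_coe
    · rw [dim_support_eq hn hF (rk_ne_zero ι hF hEt h0)]
      intro h
      have : n + 1 = n := by exact_mod_cast h
      omega
  · intro F ι hι hF pF pE hpF hpE h1 h2
    rw [eq_hp k hpF] at h1 h2 ⊢
    rw [eq_hp k hpE] at h2 ⊢
    rw [alpha_pos_iff k hL hn hF] at h1
    rw [alpha_lt_iff k hL hn hF hE] at h2
    have h3 := H F ι hι hF (Nat.pos_of_ne_zero h1) h2
    have h4 : (0 : ℚ) < rk F := by exact_mod_cast Nat.pos_of_ne_zero h1
    have h5 : (0 : ℚ) < rk E := by exact_mod_cast Nat.pos_of_ne_zero hr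
    rw [hatSlope, hatSlope, alpha_rk k hL.1 hn hF, alpha_rk k hL.1 hn hE, div_lt_div_iff₀ (by positivity) (by positivity)]
    nlinarith

end Mu

end K848.PicOne
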