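import Groth.Agent.ShStab.K848.Hartogs
import Groth.Agent.S0234
import Groth.Agent.S2821
import Groth.Agent.Dcoh.FreeSec
import Groth.Agent.Ega2.QCohLocal
import Groth.Agent.Fdesc.LocGen
import Groth.Agent.PerfA.CohSerre

/-!
# The divisorial hull of a torsion-free module of rank one

`X` integral, locally Noetherian, with regular local rings, `F` coherent torsion-free with one-dimensional
generic stalk.  Then `F` embeds into an invertible module `M` with cokernel supported in codimension `≥ 2`.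
-/

set_option autoImplicit false
universe u
open CategoryTheory CategoryTheory.Limits AlgebraicGeometry Opposite TopologicalSpace

namespace K848.Hull

open Groth.Agent.CycB.StalkExact Groth.Agent.VarietyB.ExactLoc
open Groth.Agent.Divis.StalkMod Groth.Agent.Divis.ReflexAlg
open Groth.Agent.Dcoh.StalkRestrict Groth.Agent.Dcoh.FreeSec
open K848.Hartogs K848.TF

variable {X : Scheme.{u}}

theorem isIntegrallyClosed_of_regular (hreg : ∀ x : X, IsRegularLocalRing (X.presheaf.stalk x)) (x : X) :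
    IsIntegrallyClosed (X.presheaf.stalk x) := by
  have := hreg x
  obtain ⟨h1, h2⟩ := Groth.Agent.S2821.result (X.presheaf.stalk x)
  infer_instance

theorem ufd_of_regular (hreg : ∀ x : X, IsRegularLocalRing (X.presheaf.stalk x)) (x : X) :
    UniqueFactorizationMonoid (X.presheaf.stalk x) := by
  have := hreg x
  exact (Groth.Agent.S2821.result (X.presheaf.stalk x)).2

/-- Transport of a basis along a semilinear equivalence. -/
noncomputable def basisOfSemilinear {R S : Type*} [CommRing R] [CommRing S] (σ : R ≃+* S)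
    {M N : Type*} [AddCommGroup M] [AddCommGroup N] [Module R M] [Module S N] (e : M ≃+ N)
    (he : ∀ (r : R) (m : M), e (r • m) = σ r • e m) {ι : Type*} (b : Module.Basis ι R M) :
    Module.Basis ι S N :=
  letI : Module R N := Module.compHom N σ.toRingHom
  (b.map ({ e with map_smul' := fun r m => he r m } : M ≃ₗ[R] N)).mapCoeffs σ (fun _ _ => rfl)

/-- a trivialization near a point gives a basis of the stalk -/
noncomputable def basisOfTriv {M : X.Modules} {U : X.Opens} {n : ℕ} (a : M.restrict U.ι ≅ FlatMod.freeMod (↑U) n)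
    {x : X} (hx : x ∈ U) : Module.Basis (Fin n) (X.presheaf.stalk x) (M.presheaf.stalk x) :=
  let b : Module.Basis (Fin n) ((U : Scheme.{u}).presheaf.stalk (pt U hx))
      ((M.restrict U.ι).presheaf.stalk (pt U hx)) :=
    Module.Basis.ofEquivFun ((stalkLinEquiv a (pt U hx)).trans (stalkFree n (pt U hx)).symm)
  basisOfSemilinear (σo U hx).symm (ρo U hx M) (ρo_smul' U hx M) b

/-- the rank of the generic stalk -/
noncomputable def rk [IsIntegral X] (F : X.Modules) : ℕ :=
  Module.finrank (X.presheaf.stalk (genericPoint X)) (F.presheaf.stalk (genericPoint X))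

theorem eq_rk_of_triv [IsIntegral X] {M : X.Modules} {U : X.Opens} {n : ℕ}
    (a : M.restrict U.ι ≅ FlatMod.freeMod (↑U) n) {x : X} (hx : x ∈ U) : n = rk M := by
  have hη : genericPoint X ∈ U := (gen x).mem_open U.isOpen hx
  have h := Module.finrank_eq_card_basis (basisOfTriv a hη)
  rw [Fintype.card_fin] at h
  exact h.symm

theorem rk_structureModule_of_isInvertible [IsIntegral X] {L : X.Modules} (hL : PicF.IsInvertible L) :
    rk L = 1 := by
  obtain ⟨U, hx, ⟨e⟩⟩ := (Groth.Agent.Ega2.QCohLocal.isFinLocFreeOfRank_one_iff.mpr hL) (genericPoint X)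
  exact (eq_rk_of_triv e hx).symm

/-- near a point with free stalk, a module of rank one is invertible -/
theorem exists_gen_of_free [IsIntegral X] [IsLocallyNoetherian X] {F : X.Modules} (hF : Coh.IsCoh F)
    (hr : rk F = 1) (x : X) (h : Module.Free (X.presheaf.stalk x) (F.presheaf.stalk x)) :
    ∃ (V : X.Opens) (_ : x ∈ V), Nonempty (F.restrict V.ι ≅ Coh.structureModule (↑V)) := by
  obtain ⟨V, n, hxV, ⟨e⟩⟩ := exists_free_nhd hF x h
  have hn : n = 1 := (eq_rk_of_triv e hxV).trans hr
  subst hn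
  exact ⟨V, hxV, ⟨e ≪≫ (Groth.Agent.Ega2.QCohLocal.freeModOneIso _).symm⟩⟩

open Groth.Agent.Fdesc.LocGen in
/-- the locus where a module is invertible -/
theorem exists_inv_open {F : X.Modules} (S : Set X)
    (h : ∀ x ∈ S, ∃ (V : X.Opens) (_ : x ∈ V), Nonempty (F.restrict V.ι ≅ Coh.structureModule (↑V))) :
    ∃ U : X.Opens, S ⊆ (U : Set X) ∧ PicF.IsInvertible (F.restrict U.ι) := by
  have h' : ∀ x : S, ∃ (V : X.Opens) (e : Γ(F, V)), x.1 ∈ V ∧ IsGen e := by
    rintro ⟨x, hx⟩
    obtain ⟨V, hxV, ⟨e⟩⟩ := h x hx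
    have h1 : IsGen (sec e.inv ⊤) := (isIso_iff_isGen e.inv).mp inferInstance
    obtain ⟨m, hm⟩ := (toRestrict (M := F) V.ι (U := ⊤)).surjective (sec e.inv ⊤)
    rw [← hm, isGen_toRestrict_iff] at h1
    exact ⟨_, m, by simpa using hxV, h1⟩
  choose V e hxV he using h'
  refine ⟨⨆ x : S, V x, fun x hx => Opens.mem_iSup.2 ⟨⟨x, hx⟩, hxV _⟩, ?_⟩
  rw [isInvertible_iff]
  rintro ⟨y, hy⟩
  obtain ⟨x, hyx⟩ := Opens.mem_iSup.1 hy
  let W := ⨆ x : S, V x
  have hle : W.ι ''ᵁ (W.ι ⁻¹ᵁ (V x)) ≤ V x := W.ι.image_preimage_le _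
  refine ⟨W.ι ⁻¹ᵁ (V x), toRestrict (M := F) W.ι (res F hle (e x)), hyx, ?_⟩
  rw [isGen_toRestrict_iff]
  exact (he x).res hle

theorem le_one_of_lt_two {d : WithBot ℕ∞} (h : d < 2) : d ≤ 1 := by
  induction d with
  | bot => exact bot_le
  | coe d =>
    have h' : d < (2 : ℕ∞) := WithBot.coe_lt_coe.1 h
    have h2 : d ≤ 1 := Order.le_of_lt_add_one (by rwa [one_add_one_eq_two])
    exact_mod_cast h2

/-- a stalk of dimension at most one of a torsion-free coherent module on a regular scheme is free -/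
theorem free_stalk (hreg : ∀ x : X, IsRegularLocalRing (X.presheaf.stalk x)) {F : X.Modules}
    (hF : Coh.IsCoh F) (htf : TorSh.IsTorsionFree F) (x : X)
    (hx : ¬ (2 : WithBot ℕ∞) ≤ ringKrullDim (X.presheaf.stalk x)) :
    Module.Free (X.presheaf.stalk x) (F.presheaf.stalk x) := by
  have := hreg x
  have := finite_stalk hF x
  have := htf x
  exact free_of_isTorsionFree (le_one_of_lt_two (not_le.1 hx)) _

/-- **Divisorial hull.** -/
theorem exists_hull [IsIntegral X] [IsLocallyNoetherian X]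
    (hreg : ∀ x : X, IsRegularLocalRing (X.presheaf.stalk x)) {F : X.Modules}
    (hF : Coh.IsCoh F) (htf : TorSh.IsTorsionFree F) (hr : rk F = 1) :
    ∃ (M : X.Modules) (_ : PicF.IsInvertible M) (φ : F ⟶ M) (U : X.Opens), Mono φ ∧ Big U ∧
      (∀ x ∈ U, Function.Bijective (stalkLin φ x)) ∧
      ∀ x ∈ CohB1.support (cokernel φ), (2 : WithBot ℕ∞) ≤ ringKrullDim (X.presheaf.stalk x) := by
  obtain ⟨U, hSU, hinv⟩ := exists_inv_open (F := F)
    {x : X | ¬ (2 : WithBot ℕ∞) ≤ ringKrullDim (X.presheaf.stalk x)} (fun x hx =>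
      exists_gen_of_free hF hr x (free_stalk hreg hF htf x hx))
  have hU : Big U := fun x hx => by
    by_contra hcon
    exact hx (hSU hcon)
  obtain ⟨M, hM, ⟨e⟩⟩ := Groth.Agent.S0234.result X U (F.restrict U.ι) hinv
    (fun x _ => ufd_of_regular hreg x)
  have hn := isIntegrallyClosed_of_regular hreg
  have hMf : FlatMod.IsFinLocFree M := fun x => by
    obtain ⟨V, hxV, e⟩ := (Groth.Agent.Ega2.QCohLocal.isFinLocFreeOfRank_one_iff.mpr hM) x
    exact ⟨V, 1, hxV, e⟩
  have hMc : Coh.IsCoh M := Groth.Agent.PerfA.CohSerre.isCoh_of_isFinLocFree hMf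
  obtain ⟨φ, hφ⟩ := exists_extend (F := F) hn hU hMc hMf e.inv
  have hiso : IsIso ((Scheme.Modules.restrictFunctor U.ι).map φ) := by rw [hφ]; infer_instance
  have hbij : ∀ x ∈ U, Function.Bijective (stalkLin φ x) := fun x hx =>
    stalkLin_bijective_of_restrict φ x hx
  refine ⟨M, hM, φ, U, ?_, hU, hbij, ?_⟩
  · exact mono_of_generic hF.1 htf φ (hbij _ hU.genericPoint_mem).1
  · intro x hx
    by_contra hcon
    exact (not_mem_support_cokernel_iff φ x).2 (hbij x (hSU hcon)).2 hx

end K848.Hull
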