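import Groth.Agent.ShStab.K848.Stab
import Groth.Agent.Dcoh.FinLocFree

/-!
# Hilbert polynomials and ranks of free modules
-/

set_option autoImplicit false
universe u
open CategoryTheory CategoryTheory.Limits AlgebraicGeometry Opposite TopologicalSpace Polynomial

namespace K848.FreeHp

open Groth.Agent Groth.Agent.Fga.PicMon
open ShStab StabCat
open K848.Rank K848.Hull K848.Poly K848.HB K848.TF K848.Dim K848.Stab

theorem isZero_freeMod_zero (X : Scheme.{u}) : IsZero (FlatMod.freeMod X 0) := by
  rw [IsZero.iff_id_eq_zero]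
  exact Sigma.hom_ext _ _ fun j => j.elim0

theorem rk_freeMod {X : Scheme.{u}} [IsIntegral X] [IsLocallyNoetherian X] (e : ℕ) : rk (FlatMod.freeMod X e) = e := by
  induction e with
  | zero =>
    have h1 : Subsingleton ((FlatMod.freeMod X 0).presheaf.stalk (genericPoint X)) :=
      (Groth.Agent.VarietyB.ExactLoc.isZero_iff_stalk _).1 (isZero_freeMod_zero X) _
    exact Module.finrank_zero_of_subsingleton
  | succ e ih =>
    obtain ⟨f⟩ := Dcoh.FinLocFree.nonempty_biprod_freeMod_iso X e 1
    have h1 := rk_iso f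
    have h2 := rk_shortExact (ShortComplex.Splitting.ofHasBinaryBiproduct (FlatMod.freeMod X e) (FlatMod.freeMod X 1)).shortExact
      (Sga67.CohBasic.isCoh_biprod (PerfA.CohSerre.isCoh_freeMod e) (PerfA.CohSerre.isCoh_freeMod 1))
    dsimp only at h2
    have h3 := rk_iso (Ega2.QCohLocal.freeModOneIso X)
    rw [rk_structureModule] at h3
    omega

variable (k : Type u) [Field k] {X : Scheme.{u}} [X.Over (Spec (CommRingCat.of k))]
  [IsProper (X ↘ Spec (CommRingCat.of k))] {L : X.Modules}

theorem hp_freeMod (hL : PicF.IsInvertible L) (e : ℕ) :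
    hp k L (FlatMod.freeMod X e) = (e : ℚ) • hp k L (Coh.structureModule X) := by
  induction e with
  | zero => rw [hp_isZero k hL (isZero_freeMod_zero X)]; simp
  | succ e ih =>
    have := Groth.Agent.Fga.SnapperTwist.isNoetherian_of_proper k X
    obtain ⟨f⟩ := Dcoh.FinLocFree.nonempty_biprod_freeMod_iso X e 1
    have c1 := PerfA.CohSerre.isCoh_freeMod (X := X) e
    have c2 := PerfA.CohSerre.isCoh_freeMod (X := X) 1
    have c3 := Sga67.CohBasic.isCoh_biprod c1 c2
    have h1 := hp_iso k hL c3 f
    have h2 := hp_add k hL (ShortComplex.Splitting.ofHasBinaryBiproduct (FlatMod.freeMod X e) (FlatMod.freeMod X 1)).shortExact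
      c1 c3 c2
    dsimp only at h2
    have h3 := hp_iso k hL isCoh_structureModule (Ega2.QCohLocal.freeModOneIso X)
    rw [h1, h2, ih, h3]
    push_cast
    rw [add_smul, one_smul]

theorem alpha_freeMod (hL : PicF.IsInvertible L) (e i : ℕ) :
    alpha i (hp k L (FlatMod.freeMod X e)) = e * alpha i (hp k L (Coh.structureModule X)) := by
  rw [hp_freeMod k hL, alpha_smul]

end K848.FreeHp
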