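import Groth.Agent.ShStab.K848.Poly
import Mathlib.Algebra.Polynomial.Taylor
import Mathlib.Algebra.Group.ForwardDiff
import Mathlib.Algebra.Polynomial.HasseDeriv

/-!
# Shifts of polynomials and the two top coefficients
-/

set_option autoImplicit false
open Polynomial StabCat

namespace K848.Poly

/-- `P(X + a)` -/
noncomputable def shift (a : ℚ) (P : ℚ[X]) : ℚ[X] := taylor a P

theorem eval_shift (a : ℚ) (P : ℚ[X]) (x : ℚ) : (shift a P).eval x = P.eval (x + a) := by
  rw [shift, taylor_eval]

theorem natDegree_shift (a : ℚ) (P : ℚ[X]) : (shift a P).natDegree = P.natDegree := natDegree_taylor P a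

theorem shift_shift (a b : ℚ) (P : ℚ[X]) : shift a (shift b P) = shift (a + b) P := by
  rw [shift, shift, shift, taylor_taylor, add_comm]

theorem shift_zero (P : ℚ[X]) : shift 0 P = P := taylor_zero P

theorem shift_injective (a : ℚ) {P Q : ℚ[X]} (h : shift a P = shift a Q) : P = Q := taylor_injective a h

theorem shift_add (a : ℚ) (P Q : ℚ[X]) : shift a (P + Q) = shift a P + shift a Q := map_add _ _ _

theorem coeff_shift {n : ℕ} {P : ℚ[X]} (hP : P.natDegree ≤ n) (a : ℚ) : (shift a P).coeff n = P.coeff n := by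
  rw [shift, taylor_coeff, eval_eq_sum_range' (n := 1)]
  · simp [hasseDeriv_coeff]
  · refine lt_of_le_of_lt (natDegree_hasseDeriv_le _ _) (by omega)

theorem coeff_shift_pred {n : ℕ} {P : ℚ[X]} (hP : P.natDegree ≤ n + 1) (a : ℚ) :
    (shift a P).coeff n = P.coeff n + (n + 1) * a * P.coeff (n + 1) := by
  rw [shift, taylor_coeff, eval_eq_sum_range' (n := 2)]
  · simp only [hasseDeriv_coeff, Finset.sum_range_succ, Finset.sum_range_zero, zero_add, Nat.choose_self,
      Nat.cast_one, one_mul, pow_zero, mul_one, pow_one]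
    rw [add_comm 1 n, Nat.choose_succ_self_right]
    push_cast
    ring
  · refine lt_of_le_of_lt (natDegree_hasseDeriv_le _ _) (by omega)

theorem alpha_shift {n : ℕ} {P : ℚ[X]} (hP : P.natDegree ≤ n) (a : ℚ) : alpha n (shift a P) = alpha n P := by
  rw [alpha, alpha, coeff_shift hP]

theorem alpha_shift_pred {n : ℕ} {P : ℚ[X]} (hP : P.natDegree ≤ n) (hn : 1 ≤ n) (a : ℚ) :
    alpha (n - 1) (shift a P) = alpha (n - 1) P + a * alpha n P := by
  obtain ⟨m, rfl⟩ : ∃ m, n = m + 1 := ⟨n - 1, by omega⟩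
  rw [Nat.add_sub_cancel, alpha, alpha, alpha, coeff_shift_pred hP, Nat.factorial_succ]
  push_cast
  ring

/-- the top coefficient as an iterated difference -/
theorem sum_choose_eq {n : ℕ} {P : ℚ[X]} (hP : P.natDegree ≤ n) (y : ℚ) :
    ∑ j ∈ Finset.range (n + 1), ((-1 : ℤ) ^ (n - j) * n.choose j) • P.eval (y + j) = alpha n P := by
  have h := fwdDiff_iter_eq_sum_shift (1 : ℚ) P.eval n y
  simp only [nsmul_eq_mul, mul_one] at h
  rw [← h]
  rcases hP.lt_or_eq with h1 | h1
  · rw [Polynomial.fwdDiff_iter_eq_zero_of_degree_lt h1, alpha, coeff_eq_zero_of_natDegree_lt h1]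
    simp
  · subst h1
    rw [Polynomial.fwdDiff_iter_degree_eq_factorial, alpha, coeff_natDegree]
    simp [mul_comm]

end K848.Poly
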