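import Mathlib.AlgebraicGeometry.Noetherian
import Groth.Agent.Models2.CodimStalk
import Groth.Agent.CurvesB.DimPts
import Groth.Agent.CycA.IntLocal
import Groth.Agent.Fga.DimLt

/-!
# Dimension of closed subsets and of stalks
-/

set_option autoImplicit false
universe u
open CategoryTheory AlgebraicGeometry TopologicalSpace

namespace K848.Dim

open Groth.Agent.Models2.CodimStalk

/-- Bounding the dimension of a quasi-sober `T₀` space by a strictly monotone function on its points. -/
theorem topologicalKrullDim_le_of_strict {T : Type*} [TopologicalSpace T] [QuasiSober T] [T0Space T]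
    (g : T → ℕ) (m : ℕ) (h : ∀ y y' : T, y' ⤳ y → ¬ y ⤳ y' → g y < g y') (hm : ∀ y, g y ≤ m) :
    topologicalKrullDim T ≤ m := by
  let _ := specializationOrder T
  rw [show topologicalKrullDim T = Order.krullDim T from
    Order.krullDim_eq_of_orderIso irreducibleSetEquivPoints]
  refine iSup_le fun p => ?_
  have hmono : StrictMono g := fun y y' hyy' => h y y' hyy'.le fun h' => hyy'.not_ge h'
  have h11 := LTSeries.head_add_length_le_nat (p.map _ hmono)
  have h12 : (p.map _ hmono).last = g p.last := rfl
  have h13 : (p.map _ hmono).length = p.length := rfl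
  have h14 := hm p.last
  have : p.length ≤ m := by lia
  exact_mod_cast this

/-- A closed subset of a locally Noetherian scheme of dimension `n` all of whose points have local ring of dimension
`≥ c` has dimension `≤ n - c`. -/
theorem topologicalKrullDim_add_le {X : Scheme.{u}} [IsLocallyNoetherian X] {n : ℕ}
    (hn : topologicalKrullDim X = n) {T : Set X} (hT : IsClosed T) (c : ℕ)
    (h : ∀ x ∈ T, (c : WithBot ℕ∞) ≤ ringKrullDim (X.presheaf.stalk x)) :
    topologicalKrullDim T + c ≤ n := by
  have : QuasiSober T := hT.isClosedEmbedding_subtypeVal.quasiSober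
  rcases T.eq_empty_or_nonempty with h0 | ⟨y₀, hy₀⟩
  · have : IsEmpty T := Set.isEmpty_coe_sort.2 h0
    have h1 : topologicalKrullDim T = ⊥ := by
      have : IsEmpty (IrreducibleCloseds T) := ⟨fun Z => isEmptyElim Z.isIrreducible.nonempty.some⟩
      exact Order.krullDim_eq_bot
    rw [h1]
    simp
  have h2 : ∀ y ∈ T, c ≤ codim X y := by
    intro y hy
    have := h y hy
    rw [coe_codim] at this
    exact_mod_cast this
  have h3 : ∀ y : X, codim X y ≤ n := fun y => codim_le X hn y
  have h4 : c ≤ n := (h2 y₀ hy₀).trans (h3 y₀)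
  suffices hs : topologicalKrullDim T ≤ ((n - c : ℕ) : WithBot ℕ∞) by
    calc topologicalKrullDim T + c ≤ ((n - c : ℕ) : WithBot ℕ∞) + c := by gcongr
      _ = ((n - c + c : ℕ) : WithBot ℕ∞) := by push_cast; rfl
      _ = n := by rw [Nat.sub_add_cancel h4]
  refine topologicalKrullDim_le_of_strict (fun y => n - codim X y.1) _ ?_ ?_
  · intro y y' h6 h7
    have h8 : codim X y'.1 < codim X y.1 := by
      refine codim_lt X (h6.map continuous_subtype_val) fun h9 => h7 ?_
      exact Topology.IsInducing.subtypeVal.specializes_iff.1 h9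
    have h9 := h3 y
    have h10 := h3 y'
    change n - codim X y.1 < n - codim X y'.1
    lia
  · intro y
    have := h2 y.1 y.2
    change n - codim X y.1 ≤ n - c
    lia

/-- A closed subset with all local rings of dimension `≥ 2` has dimension `< n - 1`. -/
theorem topologicalKrullDim_lt_of_two {X : Scheme.{u}} [IsLocallyNoetherian X] {n : ℕ}
    (hn : topologicalKrullDim X = n) {T : Set X} (hT : IsClosed T)
    (h : ∀ x ∈ T, (2 : WithBot ℕ∞) ≤ ringKrullDim (X.presheaf.stalk x)) :
    topologicalKrullDim T < ((n - 1 : ℕ) : WithBot ℕ∞) := by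
  have h1 := topologicalKrullDim_add_le hn hT 2 (by simpa using h)
  generalize topologicalKrullDim T = t at h1 ⊢
  induction t with
  | bot => exact WithBot.bot_lt_coe _
  | coe t =>
    have h2 : t + 2 ≤ (n : ℕ∞) := WithBot.coe_le_coe.1 h1
    have h3 : t < ((n - 1 : ℕ) : ℕ∞) := by
      have h4 : t ≠ ⊤ := by
        rintro rfl
        simp at h2
      lift t to ℕ using h4
      have : t + 2 ≤ n := by exact_mod_cast h2
      exact_mod_cast (by omega : t < n - 1)
    exact WithBot.coe_lt_coe.2 h3

/-- A proper closed subset: every point has a local ring of positive dimension. -/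
theorem one_le_ringKrullDim_stalk {X : Scheme.{u}} [IsIntegral X] {x : X} (hx : x ≠ genericPoint X) :
    (1 : WithBot ℕ∞) ≤ ringKrullDim (X.presheaf.stalk x) := by
  rw [ringKrullDim_stalk_eq_coheight]
  have h1 : x < genericPoint X := by
    refine lt_of_le_not_ge (genericPoint_specializes x) fun h => hx ?_
    exact (Specializes.antisymm h (genericPoint_specializes x)).eq
  have h2 := Order.coheight_add_one_le h1
  have h3 : (1 : ℕ∞) ≤ Order.coheight x := le_trans (by simp) h2
  exact_mod_cast h3

/-- A closed subset not containing the generic point has dimension `≤ n - 1`. -/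
theorem topologicalKrullDim_le_pred {X : Scheme.{u}} [IsIntegral X] [IsLocallyNoetherian X] {n : ℕ}
    (hn : topologicalKrullDim X = n) {T : Set X} (hT : IsClosed T) (h : genericPoint X ∉ T) :
    topologicalKrullDim T + 1 ≤ n := by
  have := topologicalKrullDim_add_le hn hT 1 (fun x hx => by
    simpa using one_le_ringKrullDim_stalk (x := x) (fun h0 => h (h0 ▸ hx)))
  simpa using this

/-- A closed subset with a point whose local ring has dimension `≤ 1` has dimension `≥ n - 1`
(`X` integral, locally of finite type over a field). -/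
theorem le_topologicalKrullDim {K : Type u} [Field K] {X : Scheme.{u}} (f : X ⟶ Spec (CommRingCat.of K))
    [LocallyOfFiniteType f] [IsIntegral X] {n : ℕ} (hn : topologicalKrullDim X = n) {T : Set X} (hT : IsClosed T)
    {x : X} (hx : x ∈ T) (h : ringKrullDim (X.presheaf.stalk x) ≤ 1) :
    ((n - 1 : ℕ) : WithBot ℕ∞) ≤ topologicalKrullDim T := by
  obtain ⟨a, t, n', h1, -, h2, h3, h4⟩ := Groth.Agent.CycA.IntLocal.exists_dims f x
  have h5 : closure {x} ⊆ T := hT.closure_subset_iff.2 (by simpa using hx)
  have h6 : topologicalKrullDim (closure {x} : Set X) ≤ topologicalKrullDim T :=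
    Groth.Agent.Fga.DimLt.topologicalKrullDim_mono h5
  rw [h1] at h
  have h7 : a ≤ 1 := by exact_mod_cast h
  rw [hn] at h3
  have h8 : n = n' := by exact_mod_cast h3
  rw [h2] at h6
  refine le_trans ?_ h6
  exact_mod_cast (by omega : n - 1 ≤ t)

end K848.Dim
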