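import Groth.Agent.ShStab.K848.Hull
import Groth.Agent.ShStab.K848.Dim
import Groth.Agent.Fga.MultForm
import Groth.Agent.Fga.SnapperTwist
import Mathlib.RingTheory.SimpleModule.Rank

/-!
# Rank on integral schemes and additive functions
-/

set_option autoImplicit false
universe u
open CategoryTheory CategoryTheory.Limits AlgebraicGeometry Opposite TopologicalSpace

namespace K848.Rank

open Groth.Agent.Ega3B.Devissage Groth.Agent.Fdesc.QCohStalk Groth.Agent.Ega3B.DevHom
open Groth.Agent.CycB.StalkExact Groth.Agent.Divis.StalkMod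
open Groth.Agent.Ega3B.DevStep Groth.Agent.Ega3B.DevQC
open K848.Hull K848.TF

variable {X : Scheme.{u}}

theorem isFinLocFree_of_isInvertible {M : X.Modules} (hM : PicF.IsInvertible M) : FlatMod.IsFinLocFree M :=
  fun x => by
    obtain ⟨V, hxV, e⟩ := (Groth.Agent.Ega2.QCohLocal.isFinLocFreeOfRank_one_iff.mpr hM) x
    exact ⟨V, 1, hxV, e⟩

theorem isCoh_of_isInvertible {M : X.Modules} (hM : PicF.IsInvertible M) : Coh.IsCoh M :=
  Groth.Agent.PerfA.CohSerre.isCoh_of_isFinLocFree (isFinLocFree_of_isInvertible hM)

section Rk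

variable [IsIntegral X]

theorem rk_eq_zero_iff {F : X.Modules} (hF : Coh.IsCoh F) : rk F = 0 ↔ genericPoint X ∉ CohB1.support F := by
  have := finite_stalk hF (genericPoint X)
  rw [rk, Module.finrank_eq_zero_iff_of_free]
  exact not_not.symm

theorem rk_shortExact {S : ShortComplex X.Modules} (hS : S.ShortExact) (h2 : Coh.IsCoh S.X₂) :
    rk S.X₂ = rk S.X₁ + rk S.X₃ := by
  have := hS.mono_f
  have := hS.epi_g
  have := finite_stalk h2 (genericPoint X)
  have hi := stalkLin_injective S.f (genericPoint X)
  have hs := stalkLin_surjective S.g (genericPoint X)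
  have he := stalkLin_exact S hS.exact (genericPoint X)
  have h1 := LinearMap.finrank_range_add_finrank_ker (stalkLin S.g (genericPoint X))
  rw [LinearMap.range_eq_top.2 hs, finrank_top, LinearMap.exact_iff.1 he,
    LinearMap.finrank_range_of_inj hi] at h1
  rw [rk, ← h1, add_comm]
  rfl

theorem rk_iso {F G : X.Modules} (e : F ≅ G) : rk F = rk G :=
  LinearEquiv.finrank_eq (stalkLinEquiv e _)

theorem rk_structureModule : rk (Coh.structureModule X) = 1 :=
  rk_structureModule_of_isInvertible Groth.Agent.Fdesc.LocGen.isInvertible_structureModule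

theorem rk_le_of_mono {F G : X.Modules} (f : F ⟶ G) [Mono f] (hG : Coh.IsCoh G) : rk F ≤ rk G := by
  have := finite_stalk hG (genericPoint X)
  exact LinearMap.finrank_le_finrank_of_injective (stalkLin_injective f (genericPoint X))

end Rk

/-- **Rank formula.**  An additive function on coherent modules of an integral Noetherian scheme that vanishes on
torsion modules is the rank times its value on the structure sheaf. -/
theorem rank_formula [IsIntegral X] [IsNoetherian X] (φ : X.Modules → ℚ)
    (hφ : ∀ S : ShortComplex X.Modules, S.ShortExact → Coh.IsCoh S.X₁ → Coh.IsCoh S.X₂ → Coh.IsCoh S.X₃ →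
      φ S.X₂ = φ S.X₁ + φ S.X₃)
    (h0 : ∀ G : X.Modules, Coh.IsCoh G → genericPoint X ∉ CohB1.support G → φ G = 0)
    (F : X.Modules) (hF : Coh.IsCoh F) : φ F = (rk F : ℚ) * φ (Coh.structureModule X) := by
  refine one_step (closure {genericPoint X}) (fun F => φ F = (rk F : ℚ) * φ (Coh.structureModule X)) ?_
    (genericPoint X) ?_ ?_ (Coh.structureModule X) ?_ ?_ ?_ ?_ F hF ?_
  · intro S hS h1 h2 h3 _
    have hadd := hφ S hS h1 h2 h3
    have hr : (rk S.X₂ : ℚ) = rk S.X₁ + rk S.X₃ := by exact_mod_cast rk_shortExact hS h2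
    refine ⟨?_, ?_, ?_⟩
    · intro e1 e2
      rw [hr] at e2
      linear_combination e2 - e1 - hadd
    · intro e1 e3
      rw [hr]
      linear_combination e1 + e3 + hadd
    · intro e2 e3
      rw [hr] at e2
      linear_combination e2 - e3 - hadd
  · intro z hz hzT
    exact (hz.antisymm (specializes_iff_mem_closure.mpr hzT)).eq
  · intro M hM hMs hy
    rw [(rk_eq_zero_iff hM).2 hy, h0 M hM hy]
    simp
  · exact Groth.Agent.PerfA.CohSerre.isCoh_of_isFinLocFree
      (isFinLocFree_of_isInvertible Groth.Agent.Fdesc.LocGen.isInvertible_structureModule)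
  · rw [genericPoint_closure]
    exact Set.subset_univ _
  · rw [rk_structureModule]
    simp
  · have h := rk_structureModule (X := X)
    rw [rk] at h
    exact isSimpleModule_iff_finrank_eq_one.2 h
  · rw [genericPoint_closure]
    exact Set.subset_univ _

end K848.Rank
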