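import Groth.Prelude.Def_ShStab
import Groth.Agent.S1524
import Groth.Agent.S1528
import Groth.Agent.EtpbcA.CdFinDim
import Groth.Agent.Fga.IntNum0
import Groth.Agent.ShStab.K848.Rank
import Groth.Agent.ShStab.K848.Poly2

/-!
# Hilbert polynomials of coherent modules on a scheme proper over a field
-/

set_option autoImplicit false
universe u
open CategoryTheory CategoryTheory.Limits AlgebraicGeometry Opposite TopologicalSpace Polynomial

namespace K848.HB

open Groth.Agent.Fga.PicMon Groth.Agent.Fga.ChiBasic Groth.Agent.Fga.SnapperTwist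
open Groth.Agent.Fdesc ShStab StabCat
open K848.Rank K848.Hull K848.Poly

variable (k : Type u) [Field k] {X : Scheme.{u}} [X.Over (Spec (CommRingCat.of k))]

theorem hilb_unique {L F : X.Modules} {P Q : ℚ[X]} (hP : IsHilbPoly k X L F P) (hQ : IsHilbPoly k X L F Q) :
    P = Q :=
  Polynomial.eq_of_infinite_eval_eq P Q
    (Set.infinite_of_injective_forall_mem (f := fun m : ℕ => (m : ℚ)) Nat.cast_injective
      fun m => (hP m).symm.trans (hQ m))

/-- the Hilbert polynomial, if there is one -/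
noncomputable def hp (L F : X.Modules) : ℚ[X] :=
  open Classical in if h : ∃ P, IsHilbPoly k X L F P then h.choose else 0

theorem eq_hp {L F : X.Modules} {P : ℚ[X]} (h : IsHilbPoly k X L F P) : P = hp k L F := by
  have h' : ∃ P, IsHilbPoly k X L F P := ⟨P, h⟩
  rw [hp, dif_pos h']
  exact hilb_unique k h h'.choose_spec

variable [IsProper (X ↘ Spec (CommRingCat.of k))]

theorem isAdd_euler : IsAdd (Curv2.euler k X) := fun S hS h1 h2 h3 =>
  Groth.Agent.S1524.result k X S hS h1 h2 h3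

theorem isCoh_twist {L F : X.Modules} (hL : PicF.IsInvertible L) (hF : Coh.IsCoh F) (m : ℕ) :
    Coh.IsCoh (twist X L F m) :=
  Groth.Agent.Fga.TwistCoh.isCoh_tensor hF (LocGen.isInvertible_tensorPow hL m)

theorem euler_iso {M N : X.Modules} (e : M ≅ N) (hM : Coh.IsCoh M) : Curv2.euler k X M = Curv2.euler k X N :=
  chi_iso (isAdd_euler k) e hM

variable {L : X.Modules} (hL : PicF.IsInvertible L)
include hL

theorem euler_twist_add {S : ShortComplex X.Modules} (hS : S.ShortExact)
    (h1 : Coh.IsCoh S.X₁) (h2 : Coh.IsCoh S.X₂) (h3 : Coh.IsCoh S.X₃) (m : ℕ) :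
    Curv2.euler k X (twist X L S.X₂ m) = Curv2.euler k X (twist X L S.X₁ m) + Curv2.euler k X (twist X L S.X₃ m) := by
  have hP := LocGen.isInvertible_tensorPow hL m
  have h := isAdd_twist (isAdd_euler k) hP S hS h1 h2 h3
  have e : ∀ F : X.Modules, Coh.IsCoh F → Curv2.euler k X (CohB1.tensorMod (CohB1.tensorPow L m) F) =
      Curv2.euler k X (twist X L F m) := fun F hF =>
    euler_iso k (Groth.Agent.Ega2.Tens.swap _ _) (isCoh_tensor' hP hF)
  simp only [e _ h1, e _ h2, e _ h3] at h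
  exact h

/-- existence and degree bound of the Hilbert polynomial -/
theorem exists_hilb {F : X.Modules} (hF : Coh.IsCoh F) {d : ℕ}
    (hd : topologicalKrullDim (CohB1.support F) ≤ d) :
    ∃ P : ℚ[X], IsHilbPoly k X L F P ∧ P.natDegree ≤ d := by
  obtain ⟨Q, hQ, h⟩ := Groth.Agent.S1528.result k X F hF d hd 1 (fun _ => L) (fun _ => hL)
  refine ⟨MvPolynomial.aeval (fun _ => Polynomial.X) Q, fun m => ?_, ?_⟩
  · have h1 := h fun _ => m
    have h2 : (MvPolynomial.aeval (fun _ => (Polynomial.X : ℚ[X])) Q).eval (m : ℚ) =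
        MvPolynomial.eval (fun _ : Fin 1 => (m : ℚ)) Q := by
      have h3 := MvPolynomial.comp_aeval_apply (f := fun _ : Fin 1 => (Polynomial.X : ℚ[X]))
        (Polynomial.aeval (R := ℚ) (m : ℚ)) Q
      simp only [Polynomial.aeval_X] at h3
      rw [Polynomial.coe_aeval_eq_eval] at h3
      rw [← MvPolynomial.coe_aeval_eq_eval]
      exact h3
    rw [h2, ← h1]
    rfl
  · simpa using MvPolynomial.aeval_natDegree_le Q hQ (fun _ : Fin 1 => (Polynomial.X : ℚ[X])) (n := 1)
      (fun _ => natDegree_X_le)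

omit hL in
/-- a proper scheme over a field has finite dimension -/
theorem exists_dim_le (k : Type u) [Field k] (X : Scheme.{u}) [X.Over (Spec (CommRingCat.of k))]
    [IsProper (X ↘ Spec (CommRingCat.of k))] (T : Set X) : ∃ d : ℕ, topologicalKrullDim T ≤ d := by
  obtain ⟨d, hd⟩ := Groth.Agent.EtpbcA.CdFinDim.exists_dim_le (X ↘ Spec (CommRingCat.of k))
  exact ⟨d, (topologicalKrullDim_subspace_le X T).trans hd⟩

theorem isHilbPoly_hp {F : X.Modules} (hF : Coh.IsCoh F) : IsHilbPoly k X L F (hp k L F) := by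
  obtain ⟨d, hd⟩ := exists_dim_le k X (CohB1.support F)
  obtain ⟨P, hP, -⟩ := exists_hilb k hL hF hd
  have h' : ∃ P, IsHilbPoly k X L F P := ⟨P, hP⟩
  rw [hp, dif_pos h']
  exact h'.choose_spec

theorem natDegree_hp_le {F : X.Modules} (hF : Coh.IsCoh F) {d : ℕ}
    (hd : topologicalKrullDim (CohB1.support F) ≤ d) : (hp k L F).natDegree ≤ d := by
  obtain ⟨P, hP, h⟩ := exists_hilb k hL hF hd
  rwa [← eq_hp k hP]

theorem hp_add {S : ShortComplex X.Modules} (hS : S.ShortExact)
    (h1 : Coh.IsCoh S.X₁) (h2 : Coh.IsCoh S.X₂) (h3 : Coh.IsCoh S.X₃) :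
    hp k L S.X₂ = hp k L S.X₁ + hp k L S.X₃ := by
  refine (eq_hp k ?_).symm
  intro m
  rw [eval_add, ← isHilbPoly_hp k hL h1 m, ← isHilbPoly_hp k hL h3 m, euler_twist_add k hL hS h1 h2 h3 m]
  push_cast
  rfl

/-- twisting by a module whose class is a power of `L` -/
theorem hp_of_mc {F G : X.Modules} (hF : Coh.IsCoh F) (hG : Coh.IsCoh G) (a : ℕ)
    (h : mc G = mc F * mc L ^ a) : hp k L G = shift a (hp k L F) := by
  refine (eq_hp k ?_).symm
  intro m
  rw [eval_shift, ← Nat.cast_add, ← isHilbPoly_hp k hL hF (m + a)]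
  have e : Nonempty (twist X L G m ≅ twist X L F (m + a)) := by
    rw [← mc_eq_iff, twist, twist, mc_tensor, mc_tensor, mc_tensorPow, mc_tensorPow, h, pow_add]
    exact mul_right_comm _ _ _ |>.trans (mul_assoc _ _ _)
  obtain ⟨e⟩ := e
  rw [euler_iso k e (isCoh_twist hL hG m)]

theorem hp_of_mc' {F G : X.Modules} (hF : Coh.IsCoh F) (hG : Coh.IsCoh G) (a : ℕ)
    (h : mc F = mc G * mc L ^ a) : hp k L G = shift (-a) (hp k L F) := by
  rw [hp_of_mc k hL hG hF a h, shift_shift, neg_add_cancel, shift_zero]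

theorem hp_iso {F G : X.Modules} (hF : Coh.IsCoh F) (e : F ≅ G) : hp k L G = hp k L F := by
  have h := hp_of_mc k hL hF (Groth.Agent.Sga67.CohBasic.isCoh_of_iso e hF) 0 (by simp [mc_eq e])
  rw [h]
  simpa using shift_zero _

theorem hp_isZero {F : X.Modules} (hF : IsZero F) : hp k L F = 0 := by
  have hc := Groth.Agent.Sga67.CohBasic.isCoh_of_isZero hF
  have hS : (ShortComplex.mk (0 : F ⟶ F) (0 : F ⟶ F) (by simp)).ShortExact := by
    refine { exact := ShortComplex.exact_of_isZero_X₂ _ hF, mono_f := ⟨fun _ _ _ => hF.eq_of_tgt _ _⟩, epi_g := ⟨fun _ _ _ => hF.eq_of_src _ _⟩ }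
  have := hp_add k hL hS hc hc hc
  simpa using this

theorem alpha_hp_eq_zero {F : X.Modules} (hF : Coh.IsCoh F) {i : ℕ}
    (hd : topologicalKrullDim (CohB1.support F) < i) : alpha i (hp k L F) = 0 := by
  rcases i with _ | i
  · have h1 : IsEmpty (CohB1.support F) :=
      Groth.Agent.Fga.IntNum0.isEmpty_of_topologicalKrullDim_neg (by exact_mod_cast hd)
    have h2 : IsZero F :=
      Groth.Agent.CohqB.DevSupport.isZero_of_support_eq_empty (Set.isEmpty_coe_sort.mp h1)
    rw [hp_isZero k hL h2]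
    simp [alpha]
  · have h1 := natDegree_hp_le k hL hF (d := i) (Groth.Agent.Fga.IntNum0.withBot_le_of_lt_succ (by exact_mod_cast hd))
    rw [alpha, coeff_eq_zero_of_natDegree_lt (by omega), mul_zero]

end K848.HB
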