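import Groth.Agent.ShStab.K848.TF
import Groth.Agent.Divis.ReflexSheaf

/-!
# Hartogs for maps of modules

`Big U`: all local rings at points outside `U` have dimension at least two.  On an integral locally
Noetherian scheme with integrally closed local rings and `U` big, maps into a coherent finite locally
free module extend uniquely from `U`.
-/

set_option autoImplicit false
universe u
open CategoryTheory CategoryTheory.Limits AlgebraicGeometry Opposite TopologicalSpace

namespace K848.Hartogs

open Groth.Agent.CycB.StalkExact Groth.Agent.VarietyB.ExactLoc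
open Groth.Agent.Divis.StalkMod Groth.Agent.Divis.ReflexAlg Groth.Agent.Divis.ExtendStalk
open Groth.Agent.Divis.ReflexSheaf Groth.Agent.Divis.DepthTwo

section formal

universe v₁ v₂ u₁ u₂
variable {C : Type u₁} {D : Type u₂} [Category.{v₁} C] [Category.{v₂} D] {L : C ⥤ D} {R : D ⥤ C}
  (adj : L ⊣ R)

include adj in
theorem map_injective_of_unit {F G : C} [IsIso (adj.unit.app G)] {φ ψ : F ⟶ G}
    (h : L.map φ = L.map ψ) : φ = ψ := by
  have h1 := adj.unit.naturality φ
  have h2 := adj.unit.naturality ψ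
  simp only [Functor.id_obj, Functor.id_map, Functor.comp_map] at h1 h2
  rw [← cancel_mono (adj.unit.app G)]
  exact h1.trans ((congrArg (fun t => adj.unit.app F ≫ R.map t) h).trans h2.symm)

include adj in
theorem exists_map_eq_of_unit {F G : C} [IsIso (adj.unit.app G)] (ψ : L.obj F ⟶ L.obj G) :
    ∃ φ : F ⟶ G, L.map φ = ψ := by
  refine ⟨adj.homEquiv _ _ ψ ≫ inv (adj.unit.app G), ?_⟩
  apply (adj.homEquiv _ _).injective
  rw [Adjunction.homEquiv_unit]
  have h1 := adj.unit.naturality (adj.homEquiv _ _ ψ ≫ inv (adj.unit.app G))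
  simp only [Functor.id_obj, Functor.id_map, Functor.comp_map] at h1
  refine h1.symm.trans ?_
  rw [Category.assoc, IsIso.inv_hom_id, Category.comp_id]

end formal

variable {X : Scheme.{u}}

/-- all local rings outside `U` have dimension at least two -/
def Big (U : X.Opens) : Prop :=
  ∀ x : X, x ∉ U → (2 : WithBot ℕ∞) ≤ ringKrullDim (X.presheaf.stalk x)

theorem Big.mono {U V : X.Opens} (h : U ≤ V) (hU : Big U) : Big V := fun x hx => hU x fun h' => hx (h h')

theorem Big.inf {U V : X.Opens} (hU : Big U) (hV : Big V) : Big (U ⊓ V) := by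
  intro x hx
  by_cases h : x ∈ U
  · exact hV x fun h' => hx ⟨h, h'⟩
  · exact hU x h

theorem Big.genericPoint_mem [IsIntegral X] {U : X.Opens} (hU : Big U) : genericPoint X ∈ U := by
  by_contra h
  have h1 := hU _ h
  have h2 : ringKrullDim (X.presheaf.stalk (genericPoint X)) = 0 :=
    ringKrullDim_eq_zero_of_field X.functionField
  rw [h2] at h1
  exact absurd h1 (by decide)

/-- Hartogs: sections of a coherent finite locally free module extend over a big open. -/
theorem isIso_unit [IsIntegral X] [IsLocallyNoetherian X]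
    (hn : ∀ x : X, IsIntegrallyClosed (X.presheaf.stalk x)) {U : X.Opens} (hU : Big U) {G : X.Modules}
    (hG : Coh.IsCoh G) (hf : FlatMod.IsFinLocFree G) :
    IsIso ((Scheme.Modules.restrictAdjunction U.ι).unit.app G) := by
  rw [isIso_unit_iff]
  refine bijective_of_stalk hG U fun x hx => ?_
  have := hn x
  obtain ⟨a, ha, b, hb, hab⟩ := exists_regPair_of_isIntegrallyClosed (hU x hx)
  obtain ⟨h1, h2⟩ := finite_free_stalk hG.1 hf x
  refine ⟨a, ha, b, hb, ?_⟩
  exact RegPair.congr (Module.Free.chooseBasis (X.presheaf.stalk x) (G.presheaf.stalk x)).equivFun.symm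
    (RegPair.pi hab)

theorem hom_ext_of_big [IsIntegral X] [IsLocallyNoetherian X]
    (hn : ∀ x : X, IsIntegrallyClosed (X.presheaf.stalk x)) {U : X.Opens} (hU : Big U) {F G : X.Modules}
    (hG : Coh.IsCoh G) (hf : FlatMod.IsFinLocFree G) {φ ψ : F ⟶ G}
    (h : (Scheme.Modules.restrictFunctor U.ι).map φ = (Scheme.Modules.restrictFunctor U.ι).map ψ) : φ = ψ := by
  have := isIso_unit hn hU hG hf
  exact map_injective_of_unit (Scheme.Modules.restrictAdjunction U.ι) h

theorem exists_extend [IsIntegral X] [IsLocallyNoetherian X]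
    (hn : ∀ x : X, IsIntegrallyClosed (X.presheaf.stalk x)) {U : X.Opens} (hU : Big U) {F G : X.Modules}
    (hG : Coh.IsCoh G) (hf : FlatMod.IsFinLocFree G)
    (ψ : (Scheme.Modules.restrictFunctor U.ι).obj F ⟶ (Scheme.Modules.restrictFunctor U.ι).obj G) :
    ∃ φ : F ⟶ G, (Scheme.Modules.restrictFunctor U.ι).map φ = ψ := by
  have := isIso_unit hn hU hG hf
  exact exists_map_eq_of_unit (Scheme.Modules.restrictAdjunction U.ι) ψ

/-! ### stalks and restriction -/

theorem stalkLin_bijective_of_restrict {U : X.Opens} {F G : X.Modules} (φ : F ⟶ G)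
    [IsIso ((Scheme.Modules.restrictFunctor U.ι).map φ)] (x : X) (hx : x ∈ U) :
    Function.Bijective (stalkLin φ x) := by
  have h1 : Function.Bijective (stalkLin ((Scheme.Modules.restrictFunctor U.ι).map φ) (⟨x, hx⟩ : U)) := by
    exact (stalkLinEquiv (asIso ((Scheme.Modules.restrictFunctor U.ι).map φ)) (⟨x, hx⟩ : U)).bijective
  have h2 : ∀ m, stalkLin φ x (Groth.Agent.Dcoh.StalkRestrict.ρ U.ι F (⟨x, hx⟩ : U) m) =
      Groth.Agent.Dcoh.StalkRestrict.ρ U.ι G (⟨x, hx⟩ : U)
        (stalkLin ((Scheme.Modules.restrictFunctor U.ι).map φ) (⟨x, hx⟩ : U) m) := fun m =>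
    (Groth.Agent.Dcoh.StalkRestrict.ρ_naturality U.ι φ (⟨x, hx⟩ : U) m).symm
  have h3 : ⇑(stalkLin φ x) ∘ ⇑(Groth.Agent.Dcoh.StalkRestrict.ρ U.ι F (⟨x, hx⟩ : U)) =
      ⇑(Groth.Agent.Dcoh.StalkRestrict.ρ U.ι G (⟨x, hx⟩ : U)) ∘
        ⇑(stalkLin ((Scheme.Modules.restrictFunctor U.ι).map φ) (⟨x, hx⟩ : U)) := funext h2
  have h4 : Function.Bijective (⇑(stalkLin φ x) ∘ ⇑(Groth.Agent.Dcoh.StalkRestrict.ρ U.ι F (⟨x, hx⟩ : U))) := by
    rw [h3]
    exact (Groth.Agent.Dcoh.StalkRestrict.ρ U.ι G (⟨x, hx⟩ : U)).bijective.comp h1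
  exact (Function.Bijective.of_comp_iff (⇑(stalkLin φ x))
    (Groth.Agent.Dcoh.StalkRestrict.ρ U.ι F (⟨x, hx⟩ : U)).bijective).1 h4

theorem isIso_restrict_of_stalk {U : X.Opens} {F G : X.Modules} (φ : F ⟶ G)
    (h : ∀ x ∈ U, Function.Bijective (stalkLin φ x)) :
    IsIso ((Scheme.Modules.restrictFunctor U.ι).map φ) := by
  have h1 : ∀ x : U, Function.Bijective (stalkLin ((Scheme.Modules.restrictFunctor U.ι).map φ) x) := by
    intro x
    have h2 : ⇑(stalkLin φ x.1) ∘ ⇑(Groth.Agent.Dcoh.StalkRestrict.ρ U.ι F x) =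
      ⇑(Groth.Agent.Dcoh.StalkRestrict.ρ U.ι G x) ∘
        ⇑(stalkLin ((Scheme.Modules.restrictFunctor U.ι).map φ) x) := funext fun m =>
      (Groth.Agent.Dcoh.StalkRestrict.ρ_naturality U.ι φ x m).symm
    have h3 := (h x.1 x.2).comp (Groth.Agent.Dcoh.StalkRestrict.ρ U.ι F x).bijective
    rw [h2] at h3
    exact (Function.Bijective.of_comp_iff' (Groth.Agent.Dcoh.StalkRestrict.ρ U.ι G x).bijective _).1 h3
  have h2 : Mono ((Scheme.Modules.restrictFunctor U.ι).map φ) := mono_of_stalk _ fun x => (h1 x).1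
  have h3 : Epi ((Scheme.Modules.restrictFunctor U.ι).map φ) := epi_of_stalk _ fun x => (h1 x).2
  exact isIso_of_mono_of_epi _

/-- the cokernel has no support where the stalk map is surjective -/
theorem not_mem_support_cokernel_iff {F G : X.Modules} (φ : F ⟶ G) (x : X) :
    x ∉ CohB1.support (cokernel φ) ↔ Function.Surjective (stalkLin φ x) := by
  have hex := stalkLin_exact (ShortComplex.mk φ (cokernel.π φ) (cokernel.condition φ))
    (ShortComplex.exact_of_g_is_cokernel _ (cokernelIsCokernel φ)) x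
  have hsurj := stalkLin_surjective (cokernel.π φ) x
  constructor
  · intro h m
    have h1 : Subsingleton ((cokernel φ).presheaf.stalk x) := not_not.mp h
    exact (hex m).1 (Subsingleton.elim _ _)
  · intro h
    change ¬ ¬ Subsingleton _
    rw [not_not]
    refine ⟨fun a b => ?_⟩
    have key : ∀ a : (cokernel φ).presheaf.stalk x, a = 0 := by
      intro a
      obtain ⟨m, rfl⟩ := hsurj a
      exact (hex m).2 (h m)
    rw [key a, key b]

theorem not_mem_support_kernel_iff {F G : X.Modules} (φ : F ⟶ G) (x : X) :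
    x ∉ CohB1.support (kernel φ) ↔ Function.Injective (stalkLin φ x) := by
  have hex := stalkLin_exact (ShortComplex.mk (kernel.ι φ) φ (kernel.condition φ))
    (ShortComplex.exact_of_f_is_kernel _ (kernelIsKernel φ)) x
  have hinj := stalkLin_injective (kernel.ι φ) x
  constructor
  · intro h
    have h1 : Subsingleton ((kernel φ).presheaf.stalk x) := not_not.mp h
    rw [injective_iff_map_eq_zero]
    intro m hm
    obtain ⟨n, hn⟩ := (hex m).1 hm
    have hn' : stalkLin (kernel.ι φ) x n = m := hn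
    rw [← hn', Subsingleton.elim n 0, map_zero]
  · intro h
    change ¬ ¬ Subsingleton _
    rw [not_not]
    have key : ∀ a : (kernel φ).presheaf.stalk x, a = 0 := by
      intro a
      apply hinj
      rw [map_zero]
      apply h
      rw [map_zero]
      exact (hex _).2 ⟨a, rfl⟩
    exact ⟨fun a b => by rw [key a, key b]⟩

end K848.Hartogs
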