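import Groth.Prelude.Def_StabCat
import Mathlib.Analysis.Polynomial.Basic
import Mathlib.Topology.Algebra.Order.LiminfLimsup
import Mathlib.Analysis.Normed.Field.Lemmas

/-!
# Eventual comparison of polynomials, in terms of coefficients
-/

set_option autoImplicit false

open Polynomial Filter

namespace K848.Poly

open StabCat

/-- eventual nonnegativity of a polynomial on natural numbers -/
theorem eventually_nonneg_iff (P : ℚ[X]) :
    (∃ N : ℕ, ∀ m : ℕ, N ≤ m → 0 ≤ P.eval (m : ℚ)) ↔ 0 ≤ P.leadingCoeff := by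
  constructor
  · rintro ⟨N, hN⟩
    by_contra hneg
    push Not at hneg
    rcases Nat.eq_zero_or_pos P.natDegree with h0 | hpos
    · have := hN N le_rfl
      rw [Polynomial.eq_C_of_natDegree_eq_zero h0] at this hneg
      simp at this hneg
      linarith
    · have hdeg : 0 < P.degree := Polynomial.natDegree_pos_iff_degree_pos.mp hpos
      have ht := Polynomial.tendsto_atBot_of_leadingCoeff_nonpos P hdeg hneg.le
      have ht' := ht.comp (tendsto_natCast_atTop_atTop (R := ℚ))
      obtain ⟨M, hM⟩ := (ht'.eventually (eventually_lt_atBot (0 : ℚ))).exists_forall_of_atTop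
      have h1 := hM (max N M) (le_max_right _ _)
      have h2 := hN (max N M) (le_max_left _ _)
      simp only [Function.comp] at h1
      linarith
  · intro h
    rcases Nat.eq_zero_or_pos P.natDegree with h0 | hpos
    · refine ⟨0, fun m _ => ?_⟩
      rw [Polynomial.eq_C_of_natDegree_eq_zero h0] at h ⊢
      simpa using h
    · have hdeg : 0 < P.degree := Polynomial.natDegree_pos_iff_degree_pos.mp hpos
      have ht := Polynomial.tendsto_atTop_of_leadingCoeff_nonneg P hdeg h
      have ht' := ht.comp (tendsto_natCast_atTop_atTop (R := ℚ))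
      obtain ⟨M, hM⟩ := (ht'.eventually (eventually_ge_atTop (0 : ℚ))).exists_forall_of_atTop
      exact ⟨M, fun m hm => hM m hm⟩

theorem polyLE_iff (P Q : ℚ[X]) : PolyLE P Q ↔ 0 ≤ (Q - P).leadingCoeff := by
  rw [← eventually_nonneg_iff]
  unfold PolyLE
  simp [sub_nonneg]

theorem polyLT_iff (P Q : ℚ[X]) : PolyLT P Q ↔ 0 < (Q - P).leadingCoeff := by
  constructor
  · rintro ⟨N, hN⟩
    have h1 : 0 ≤ (Q - P).leadingCoeff := (polyLE_iff P Q).1 ⟨N, fun m hm => (hN m hm).le⟩
    refine lt_of_le_of_ne h1 fun h0 => ?_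
    have h2 : Q - P = 0 := Polynomial.leadingCoeff_eq_zero.1 h0.symm
    have h3 : Q = P := sub_eq_zero.1 h2
    have := hN N le_rfl
    rw [h3] at this
    exact lt_irrefl _ this
  · intro h
    have h1 : 0 ≤ ((Q - P) ).leadingCoeff := h.le
    by_contra hcon
    -- compare: eventually nonneg, and eventually nonzero since finitely many roots
    obtain ⟨N, hN⟩ := (polyLE_iff P Q).2 h1
    have hne : Q - P ≠ 0 := by
      intro h0
      rw [h0] at h
      simp at h
    have hfin : {m : ℕ | (Q - P).eval (m : ℚ) = 0}.Finite := by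
      have h3 : {m : ℕ | (Q - P).eval (m : ℚ) = 0} = (fun m : ℕ => (m : ℚ)) ⁻¹' {x | (Q - P).IsRoot x} := rfl
      rw [h3]
      refine Set.Finite.preimage (fun a _ b _ hab => by exact_mod_cast hab) ?_
      exact Polynomial.finite_setOfPred_isRoot hne
    obtain ⟨M, hM⟩ := hfin.bddAbove
    apply hcon
    refine ⟨max N (M + 1), fun m hm => ?_⟩
    have h4 := hN m ((le_max_left _ _).trans hm)
    refine lt_of_le_of_ne h4 fun h5 => ?_
    have h6 : m ∈ {m : ℕ | (Q - P).eval (m : ℚ) = 0} := by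
      change (Q - P).eval (m : ℚ) = 0
      rw [Polynomial.eval_sub, h5, sub_self]
    have h7 := hM h6
    have h8 := (le_max_right _ _).trans hm
    omega

theorem polyLE_refl (P : ℚ[X]) : PolyLE P P := ⟨0, fun _ _ => le_rfl⟩

theorem polyLE_trans {P Q R : ℚ[X]} (h : PolyLE P Q) (h' : PolyLE Q R) : PolyLE P R := by
  obtain ⟨N, hN⟩ := h
  obtain ⟨M, hM⟩ := h'
  exact ⟨max N M, fun m hm => (hN m ((le_max_left _ _).trans hm)).trans (hM m ((le_max_right _ _).trans hm))⟩

theorem polyLE_total (P Q : ℚ[X]) : PolyLE P Q ∨ PolyLT Q P := by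
  rw [polyLE_iff, polyLT_iff]
  rcases le_or_gt 0 (Q - P).leadingCoeff with h | h
  · exact Or.inl h
  · right
    have : P - Q = -(Q - P) := by ring
    rw [this, Polynomial.leadingCoeff_neg]
    linarith

theorem not_polyLT_of_polyLE {P Q : ℚ[X]} (h : PolyLE P Q) : ¬ PolyLT Q P := by
  rintro ⟨N, hN⟩
  obtain ⟨M, hM⟩ := h
  have h1 := hN (max N M) (le_max_left _ _)
  have h2 := hM (max N M) (le_max_right _ _)
  linarith

theorem PolyLT.le {P Q : ℚ[X]} (h : PolyLT P Q) : PolyLE P Q := by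
  obtain ⟨N, hN⟩ := h
  exact ⟨N, fun m hm => (hN m hm).le⟩

/-! ### coefficients -/

theorem alpha_add (d : ℕ) (P Q : ℚ[X]) : alpha d (P + Q) = alpha d P + alpha d Q := by
  simp [alpha, mul_add]

theorem alpha_sub (d : ℕ) (P Q : ℚ[X]) : alpha d (P - Q) = alpha d P - alpha d Q := by
  simp [alpha, mul_sub]

theorem alpha_smul (d : ℕ) (a : ℚ) (P : ℚ[X]) : alpha d (a • P) = a * alpha d P := by
  simp [alpha]; ring

theorem factorial_pos' (d : ℕ) : (0 : ℚ) < (d.factorial : ℚ) := by exact_mod_cast d.factorial_pos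

theorem alpha_eq_zero_iff (d : ℕ) (P : ℚ[X]) : alpha d P = 0 ↔ P.coeff d = 0 := by
  unfold alpha
  have := (factorial_pos' d).ne'
  simp [this]

theorem alpha_eq_iff (d : ℕ) (P Q : ℚ[X]) : alpha d P = alpha d Q ↔ P.coeff d = Q.coeff d := by
  unfold alpha
  have := (factorial_pos' d).ne'
  simp [this]

theorem alpha_pos_iff (d : ℕ) (P : ℚ[X]) : 0 < alpha d P ↔ 0 < P.coeff d := by
  unfold alpha
  exact mul_pos_iff_of_pos_left (factorial_pos' d)

theorem alpha_le_iff (d : ℕ) (P Q : ℚ[X]) : alpha d P ≤ alpha d Q ↔ P.coeff d ≤ Q.coeff d := by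
  unfold alpha
  exact mul_le_mul_iff_right₀ (factorial_pos' d)

/-- nonnegativity of the coefficient in degree `d` of an eventually nonnegative polynomial of degree `≤ d` -/
theorem coeff_nonneg {P : ℚ[X]} {d : ℕ} (hP : P.natDegree ≤ d) (h : 0 ≤ P.leadingCoeff) : 0 ≤ P.coeff d := by
  rcases hP.lt_or_eq with h1 | h1
  · rw [Polynomial.coeff_eq_zero_of_natDegree_lt h1]
  · rw [← h1]; exact h

theorem coeff_le_of_polyLE {P Q : ℚ[X]} {d : ℕ} (hP : P.natDegree ≤ d) (hQ : Q.natDegree ≤ d)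
    (h : PolyLE P Q) : P.coeff d ≤ Q.coeff d := by
  rw [polyLE_iff] at h
  have := coeff_nonneg (d := d) ((Polynomial.natDegree_sub_le _ _).trans (max_le hQ hP)) h
  rw [Polynomial.coeff_sub] at this
  linarith

theorem alpha_le_of_polyLE {P Q : ℚ[X]} {d : ℕ} (hP : P.natDegree ≤ d) (hQ : Q.natDegree ≤ d)
    (h : PolyLE P Q) : alpha d P ≤ alpha d Q := (alpha_le_iff _ _ _).2 (coeff_le_of_polyLE hP hQ h)

theorem natDegree_le_pred {P : ℚ[X]} {d : ℕ} (hP : P.natDegree ≤ d) (h : P.coeff d = 0) : P.natDegree ≤ d - 1 := by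
  rcases Nat.eq_zero_or_pos d with rfl | hd
  · simpa using hP
  · by_contra hcon
    push Not at hcon
    have h1 : P.natDegree = d := by omega
    have h2 : P.leadingCoeff = 0 := by rw [Polynomial.leadingCoeff, h1, h]
    rw [Polynomial.leadingCoeff_eq_zero] at h2
    rw [h2] at h1
    simp at h1
    omega

/-- equality in top degree: comparison of the next coefficient -/
theorem coeff_pred_le_of_polyLE {P Q : ℚ[X]} {d : ℕ} (hP : P.natDegree ≤ d) (hQ : Q.natDegree ≤ d)
    (h : PolyLE P Q) (he : P.coeff d = Q.coeff d) : P.coeff (d - 1) ≤ Q.coeff (d - 1) := by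
  rw [polyLE_iff] at h
  have h1 : (Q - P).natDegree ≤ d := (Polynomial.natDegree_sub_le _ _).trans (max_le hQ hP)
  have h2 : (Q - P).coeff d = 0 := by rw [Polynomial.coeff_sub, he, sub_self]
  have := coeff_nonneg (natDegree_le_pred h1 h2) h
  rw [Polynomial.coeff_sub] at this
  linarith

/-! ### truncation -/

theorem topPart_coeff (ℓ d : ℕ) (P : ℚ[X]) (i : ℕ) :
    (topPart ℓ d P).coeff i = if d - ℓ ≤ i ∧ i ≤ d then P.coeff i else 0 := by
  unfold topPart
  rw [Polynomial.finsetSum_coeff]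
  simp only [Polynomial.coeff_monomial]
  rw [Finset.sum_ite_eq' (Finset.Icc (d - ℓ) d) i]
  simp [Finset.mem_Icc]

theorem alpha_topPart (ℓ d : ℕ) (P : ℚ[X]) : alpha d (topPart ℓ d P) = alpha d P := by
  unfold alpha
  rw [topPart_coeff, if_pos ⟨Nat.sub_le _ _, le_rfl⟩]

theorem topPart_smul (ℓ d : ℕ) (a : ℚ) (P : ℚ[X]) : topPart ℓ d (a • P) = a • topPart ℓ d P := by
  ext i
  rw [topPart_coeff, Polynomial.coeff_smul, Polynomial.coeff_smul, topPart_coeff]
  split_ifs <;> simp

theorem topPart_add (ℓ d : ℕ) (P Q : ℚ[X]) : topPart ℓ d (P + Q) = topPart ℓ d P + topPart ℓ d Q := by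
  ext i
  rw [topPart_coeff, Polynomial.coeff_add, Polynomial.coeff_add, topPart_coeff, topPart_coeff]
  split_ifs <;> simp

theorem topPart_sub (ℓ d : ℕ) (P Q : ℚ[X]) : topPart ℓ d (P - Q) = topPart ℓ d P - topPart ℓ d Q := by
  ext i
  rw [topPart_coeff, Polynomial.coeff_sub, Polynomial.coeff_sub, topPart_coeff, topPart_coeff]
  split_ifs <;> simp

theorem natDegree_topPart_le (ℓ d : ℕ) (P : ℚ[X]) : (topPart ℓ d P).natDegree ≤ d := by
  rw [Polynomial.natDegree_le_iff_coeff_eq_zero]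
  intro i hi
  rw [topPart_coeff, if_neg (by omega)]

theorem topPart_eq_self {ℓ d : ℕ} (hℓ : d ≤ ℓ) {P : ℚ[X]} (hP : P.natDegree ≤ d) : topPart ℓ d P = P := by
  ext i
  rw [topPart_coeff]
  split_ifs with h
  · rfl
  · rw [Polynomial.coeff_eq_zero_of_natDegree_lt]
    omega

/-- truncation preserves eventual nonnegativity -/
theorem leadingCoeff_topPart_nonneg (ℓ d : ℕ) {P : ℚ[X]} (hP : P.natDegree ≤ d) (h : 0 ≤ P.leadingCoeff) :
    0 ≤ (topPart ℓ d P).leadingCoeff := by
  by_cases hz : topPart ℓ d P = 0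
  · rw [hz]; simp
  have h1 : P.natDegree = (topPart ℓ d P).natDegree := by
    have hne : (topPart ℓ d P).coeff (topPart ℓ d P).natDegree ≠ 0 := by
      rw [Polynomial.coeff_natDegree]
      exact Polynomial.leadingCoeff_ne_zero.2 hz
    rw [topPart_coeff] at hne
    have hrange : d - ℓ ≤ (topPart ℓ d P).natDegree ∧ (topPart ℓ d P).natDegree ≤ d := by
      by_contra hcon
      rw [if_neg hcon] at hne
      exact hne rfl
    rw [if_pos hrange] at hne
    have h2 : (topPart ℓ d P).natDegree ≤ P.natDegree := Polynomial.le_natDegree_of_ne_zero hne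
    refine le_antisymm ?_ h2
    have hP0 : P ≠ 0 := by
      rintro rfl
      simp at hne
    apply Polynomial.le_natDegree_of_ne_zero
    rw [topPart_coeff, if_pos ⟨hrange.1.trans h2, hP⟩]
    exact Polynomial.leadingCoeff_ne_zero.2 hP0
  rw [Polynomial.leadingCoeff, ← h1, topPart_coeff]
  split_ifs
  · exact h
  · exact le_rfl

theorem polyLE_topPart (ℓ d : ℕ) {P Q : ℚ[X]} (hP : P.natDegree ≤ d) (hQ : Q.natDegree ≤ d)
    (h : PolyLE P Q) : PolyLE (topPart ℓ d P) (topPart ℓ d Q) := by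
  rw [polyLE_iff] at h ⊢
  rw [← topPart_sub]
  exact leadingCoeff_topPart_nonneg ℓ d ((Polynomial.natDegree_sub_le _ _).trans (max_le hQ hP)) h

/-- reduced comparison passes to truncations -/
theorem redLE_topPart (ℓ d : ℕ) {P Q : ℚ[X]} (hP : P.natDegree ≤ d) (hQ : Q.natDegree ≤ d)
    (h : RedLE d P Q) : RedLE d (topPart ℓ d P) (topPart ℓ d Q) := by
  unfold RedLE at h ⊢
  rw [alpha_topPart, alpha_topPart, ← topPart_smul, ← topPart_smul]
  exact polyLE_topPart ℓ d ((Polynomial.natDegree_smul_le _ _).trans hP)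
    ((Polynomial.natDegree_smul_le _ _).trans hQ) h

/-- `RedLE` implies the comparison of `hatSlope`s. -/
theorem hatSlope_le_of_redLE {d : ℕ} {P Q : ℚ[X]} (hP : P.natDegree ≤ d) (hQ : Q.natDegree ≤ d)
    (hP0 : 0 < alpha d P) (hQ0 : 0 < alpha d Q) (h : RedLE d P Q) : hatSlope d P ≤ hatSlope d Q := by
  have h1 := coeff_pred_le_of_polyLE (d := d) ((Polynomial.natDegree_smul_le _ _).trans hP)
    ((Polynomial.natDegree_smul_le _ _).trans hQ) h (by
      rw [Polynomial.coeff_smul, Polynomial.coeff_smul]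
      unfold alpha
      simp only [smul_eq_mul]
      ring)
  rw [Polynomial.coeff_smul, Polynomial.coeff_smul, smul_eq_mul, smul_eq_mul] at h1
  unfold hatSlope
  rw [div_le_div_iff₀ hP0 hQ0]
  have h2 : alpha (d - 1) P = ((d - 1).factorial : ℚ) * P.coeff (d - 1) := rfl
  have h3 : alpha (d - 1) Q = ((d - 1).factorial : ℚ) * Q.coeff (d - 1) := rfl
  rw [h2, h3]
  have h4 := mul_le_mul_of_nonneg_left h1 (factorial_pos' (d - 1)).le
  nlinarith [h4]

/-- strict comparison of `hatSlope`s implies the strict reduced comparison. -/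
theorem redLT_of_hatSlope_lt {d : ℕ} {P Q : ℚ[X]} (hP : P.natDegree ≤ d) (hQ : Q.natDegree ≤ d)
    (hP0 : 0 < alpha d P) (hQ0 : 0 < alpha d Q) (h : hatSlope d P < hatSlope d Q) : RedLT d P Q := by
  rcases polyLE_total (alpha d P • Q) (alpha d Q • P) with h1 | h1
  · exact absurd (hatSlope_le_of_redLE hQ hP hQ0 hP0 h1) (not_le.2 h)
  · exact h1

end K848.Poly
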