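import Groth.Agent.ShStab.K848.Pos

/-!
# The two top coefficients of Hilbert polynomials on integral schemes
-/

set_option autoImplicit false
universe u
open CategoryTheory CategoryTheory.Limits AlgebraicGeometry Opposite TopologicalSpace Polynomial

namespace K848.Stab

open Groth.Agent.Fga.PicMon Groth.Agent.Fga.ChiBasic Groth.Agent.Fga.SnapperTwist
open Groth.Agent.Fdesc ShStab StabCat
open Groth.Agent.CycB.StalkExact Groth.Agent.Divis.StalkMod
open K848.Rank K848.Hull K848.Poly K848.HB K848.TF K848.Dim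

section Basic

variable {X : Scheme.{u}} [IsIntegral X]

theorem isCoh_structureModule {Y : Scheme.{u}} : Coh.IsCoh (Coh.structureModule Y) :=
  isCoh_of_isInvertible Groth.Agent.Fdesc.LocGen.isInvertible_structureModule

omit [IsIntegral X] in
theorem isTorsionFree_of_isFinLocFree {F : X.Modules} (hF : FlatMod.IsFinLocFree F) : TorSh.IsTorsionFree F := by
  intro x
  obtain ⟨U, n, hx, ⟨e⟩⟩ := hF x
  have : Module.Free (X.presheaf.stalk x) (F.presheaf.stalk x) := Module.Free.of_basis (basisOfTriv e hx)
  infer_instance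

theorem isZero_of_rk {F : X.Modules} (hF : Coh.IsCoh F) (htf : TorSh.IsTorsionFree F) (h : rk F = 0) : IsZero F := by
  exact isZero_of_generic hF.1 htf ((rk_eq_zero_iff hF).1 h)

theorem rk_ne_zero {F E : X.Modules} (ι : F ⟶ E) [Mono ι] (hF : Coh.IsCoh F) (hE : TorSh.IsTorsionFree E)
    (h : ¬ IsZero F) : rk F ≠ 0 := fun h0 => h (isZero_of_rk hF (isTorsionFree_of_mono ι hE) h0)

theorem support_eq_univ [IsLocallyNoetherian X] {F : X.Modules} (hF : Coh.IsCoh F) (h : rk F ≠ 0) :
    CohB1.support F = Set.univ := by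
  have h1 : genericPoint X ∈ CohB1.support F := by
    by_contra h0
    exact h ((rk_eq_zero_iff hF).2 h0)
  have h2 : IsClosed (CohB1.support F) := Groth.Agent.S0020.result X F hF.2
  refine Set.eq_univ_of_univ_subset ?_
  rw [← genericPoint_closure (α := X)]
  exact h2.closure_subset_iff.2 (by simpa using h1)

/-- the map on cokernels/generic stalks: a mono between modules of the same rank has torsion cokernel -/
theorem generic_notMem_support_cokernel {F G : X.Modules} (φ : F ⟶ G) [Mono φ] (hG : Coh.IsCoh G)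
    (hF : Coh.IsCoh F) (h : rk F = rk G) : genericPoint X ∉ CohB1.support (cokernel φ) := by
  have hc : Coh.IsCoh (cokernel φ) := Groth.Agent.PerfA.CohSerre.isCoh_cokernel φ hF.1 hG
  have hS : (ShortComplex.mk φ (cokernel.π φ) (cokernel.condition φ)).ShortExact :=
    { exact := ShortComplex.exact_cokernel φ, mono_f := inferInstance, epi_g := inferInstance }
  have h1 := rk_shortExact hS hG
  dsimp only at h1
  rw [← rk_eq_zero_iff hc]
  omega

omit [IsIntegral X] in
theorem dim_univ {n : ℕ} (hn : topologicalKrullDim X = n) :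
    topologicalKrullDim (Set.univ : Set X) = n := by
  rw [← hn]
  exact (IsHomeomorph.topologicalKrullDim_eq _ (Homeomorph.Set.univ X).isHomeomorph)

theorem dim_support_eq [IsLocallyNoetherian X] {n : ℕ} (hn : topologicalKrullDim X = n) {F : X.Modules}
    (hF : Coh.IsCoh F) (h : rk F ≠ 0) : topologicalKrullDim (CohB1.support F) = n := by
  rw [support_eq_univ hF h, dim_univ hn]

theorem isPure_of_isTorsionFree [IsLocallyNoetherian X] {n : ℕ} (hn : topologicalKrullDim X = n) {E : X.Modules}
    (hE : TorSh.IsTorsionFree E) : IsPure X E n := by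
  intro F ι hι hF h0
  exact dim_support_eq hn hF (rk_ne_zero ι hF hE h0)

/-- the support of a torsion module has dimension `≤ n - 1` -/
theorem dim_support_le_pred [IsLocallyNoetherian X] {n : ℕ} (hn : topologicalKrullDim X = n) {G : X.Modules}
    (hG : Coh.IsCoh G) (h : genericPoint X ∉ CohB1.support G) :
    topologicalKrullDim (CohB1.support G) + 1 ≤ n :=
  topologicalKrullDim_le_pred hn (Groth.Agent.S0020.result X G hG.2) h

omit [IsIntegral X] in
theorem lt_of_add_one_le {t : WithBot ℕ∞} {n : ℕ} (h : t + 1 ≤ n) : t < n := by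
  induction t with
  | bot => exact WithBot.bot_lt_coe _
  | coe t =>
    have h2 : t + 1 ≤ (n : ℕ∞) := WithBot.coe_le_coe.1 h
    have h3 : t ≠ ⊤ := by
      rintro rfl
      simp at h2
    lift t to ℕ using h3
    have : t + 1 ≤ n := by exact_mod_cast h2
    exact WithBot.coe_lt_coe.2 (by exact_mod_cast (by omega : t < n))

omit [IsIntegral X] in
theorem le_pred_of_add_one_le {t : WithBot ℕ∞} {n : ℕ} (h : t + 1 ≤ n) : t ≤ ((n - 1 : ℕ) : WithBot ℕ∞) := by
  induction t with
  | bot => exact bot_le
  | coe t =>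
    have h2 : t + 1 ≤ (n : ℕ∞) := WithBot.coe_le_coe.1 h
    have h3 : t ≠ ⊤ := by
      rintro rfl
      simp at h2
    lift t to ℕ using h3
    have : t + 1 ≤ n := by exact_mod_cast h2
    exact WithBot.coe_le_coe.2 (by exact_mod_cast (by omega : t ≤ n - 1))

end Basic

variable (k : Type u) [Field k] {X : Scheme.{u}} [X.Over (Spec (CommRingCat.of k))]
  [IsProper (X ↘ Spec (CommRingCat.of k))]

theorem dim_support_le {n : ℕ} (hn : topologicalKrullDim X = n) (F : X.Modules) :
    topologicalKrullDim (CohB1.support F) ≤ n :=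
  (topologicalKrullDim_subspace_le X _).trans hn.le

theorem natDegree_le {L : X.Modules} (hL : PicF.IsInvertible L) {n : ℕ} (hn : topologicalKrullDim X = n)
    {F : X.Modules} (hF : Coh.IsCoh F) : (hp k L F).natDegree ≤ n :=
  natDegree_hp_le k hL hF (dim_support_le hn F)

variable [IsIntegral X] {L : X.Modules} {n : ℕ}

theorem alpha_eq_zero_of_generic (hL : PicF.IsInvertible L) (hn : topologicalKrullDim X = n) {G : X.Modules}
    (hG : Coh.IsCoh G) (h : genericPoint X ∉ CohB1.support G) : alpha n (hp k L G) = 0 := by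
  have := isNoetherian_of_proper k X
  exact alpha_hp_eq_zero k hL hG (lt_of_add_one_le (dim_support_le_pred hn hG h))

theorem alpha_rk (hL : PicF.IsInvertible L) (hn : topologicalKrullDim X = n) {F : X.Modules} (hF : Coh.IsCoh F) :
    alpha n (hp k L F) = rk F * alpha n (hp k L (Coh.structureModule X)) := by
  have := isNoetherian_of_proper k X
  refine rank_formula (fun F => alpha n (hp k L F)) ?_ ?_ F hF
  · intro S hS h1 h2 h3
    rw [hp_add k hL hS h1 h2 h3, alpha_add]
  · intro G hG h
    exact alpha_eq_zero_of_generic k hL hn hG h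

theorem alpha_O_pos (hL : CohB1.IsAmple L) (hn : topologicalKrullDim X = n) :
    0 < alpha n (hp k L (Coh.structureModule X)) := by
  have := isNoetherian_of_proper k X
  refine alpha_hp_pos k hL isCoh_structureModule (dim_support_eq hn isCoh_structureModule ?_)
  rw [rk_structureModule]
  exact one_ne_zero

theorem alpha_pos_iff (hL : CohB1.IsAmple L) (hn : topologicalKrullDim X = n) {F : X.Modules} (hF : Coh.IsCoh F) :
    0 < alpha n (hp k L F) ↔ rk F ≠ 0 := by
  rw [alpha_rk k hL.1 hn hF, mul_pos_iff_of_pos_right (alpha_O_pos k hL hn), Nat.cast_pos, Nat.pos_iff_ne_zero]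

theorem alpha_lt_iff (hL : CohB1.IsAmple L) (hn : topologicalKrullDim X = n) {F G : X.Modules} (hF : Coh.IsCoh F)
    (hG : Coh.IsCoh G) : alpha n (hp k L F) < alpha n (hp k L G) ↔ rk F < rk G := by
  rw [alpha_rk k hL.1 hn hF, alpha_rk k hL.1 hn hG, mul_lt_mul_iff_of_pos_right (alpha_O_pos k hL hn), Nat.cast_lt]

theorem alpha_pred_nonneg (hL : CohB1.IsAmple L) (hn : topologicalKrullDim X = n) {G : X.Modules}
    (hG : Coh.IsCoh G) (h : genericPoint X ∉ CohB1.support G) : 0 ≤ alpha (n - 1) (hp k L G) := by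
  have := isNoetherian_of_proper k X
  have h1 := le_pred_of_add_one_le (dim_support_le_pred hn hG h)
  have h2 := natDegree_hp_le k hL.1 hG h1
  have h3 := hp_nonneg k hL hG
  rw [polyLE_iff, sub_zero] at h3
  rw [alpha]
  exact mul_nonneg (factorial_pos' _).le (coeff_nonneg h2 h3)

omit [IsIntegral X] in
theorem alpha_pred_eq_zero (hL : PicF.IsInvertible L) (hn : topologicalKrullDim X = n) {G : X.Modules}
    (hG : Coh.IsCoh G) (h : ∀ x ∈ CohB1.support G, (2 : WithBot ℕ∞) ≤ ringKrullDim (X.presheaf.stalk x)) :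
    alpha (n - 1) (hp k L G) = 0 := by
  have := isNoetherian_of_proper k X
  exact alpha_hp_eq_zero k hL hG (topologicalKrullDim_lt_of_two hn (Groth.Agent.S0020.result X G hG.2) h)

theorem alpha_pred_pos (hL : CohB1.IsAmple L) (hn : topologicalKrullDim X = n) {G : X.Modules}
    (hG : Coh.IsCoh G) (h : genericPoint X ∉ CohB1.support G) {x : X} (hx : x ∈ CohB1.support G)
    (hx1 : ringKrullDim (X.presheaf.stalk x) ≤ 1) : 0 < alpha (n - 1) (hp k L G) := by
  have := isNoetherian_of_proper k X
  refine alpha_hp_pos k hL hG (le_antisymm (le_pred_of_add_one_le (dim_support_le_pred hn hG h)) ?_)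
  exact le_topologicalKrullDim (X ↘ Spec (CommRingCat.of k)) hn (Groth.Agent.S0020.result X G hG.2) hx hx1

/-- comparison along a mono of modules of the same rank -/
theorem alpha_pred_le (hL : CohB1.IsAmple L) (hn : topologicalKrullDim X = n) {F G : X.Modules} (φ : F ⟶ G) [Mono φ]
    (hF : Coh.IsCoh F) (hG : Coh.IsCoh G) (h : rk F = rk G) :
    alpha (n - 1) (hp k L F) ≤ alpha (n - 1) (hp k L G) := by
  have hc : Coh.IsCoh (cokernel φ) := Groth.Agent.PerfA.CohSerre.isCoh_cokernel φ hF.1 hG
  have hS : (ShortComplex.mk φ (cokernel.π φ) (cokernel.condition φ)).ShortExact :=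
    { exact := ShortComplex.exact_cokernel φ, mono_f := inferInstance, epi_g := inferInstance }
  have h1 := hp_add k hL.1 hS hF hG hc
  dsimp only at h1
  rw [h1, alpha_add]
  have h2 := alpha_pred_nonneg k hL hn hc (generic_notMem_support_cokernel φ hG hF h)
  linarith

theorem alpha_pred_eq (hL : PicF.IsInvertible L) (hn : topologicalKrullDim X = n) {F G : X.Modules} (φ : F ⟶ G) [Mono φ]
    (hF : Coh.IsCoh F) (hG : Coh.IsCoh G)
    (h : ∀ x ∈ CohB1.support (cokernel φ), (2 : WithBot ℕ∞) ≤ ringKrullDim (X.presheaf.stalk x)) :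
    alpha (n - 1) (hp k L F) = alpha (n - 1) (hp k L G) := by
  have hc : Coh.IsCoh (cokernel φ) := Groth.Agent.PerfA.CohSerre.isCoh_cokernel φ hF.1 hG
  have hS : (ShortComplex.mk φ (cokernel.π φ) (cokernel.condition φ)).ShortExact :=
    { exact := ShortComplex.exact_cokernel φ, mono_f := inferInstance, epi_g := inferInstance }
  have h1 := hp_add k hL hS hF hG hc
  dsimp only at h1
  rw [h1, alpha_add, alpha_pred_eq_zero k hL hn hc h, add_zero]

/-- if the subtop coefficients agree, the cokernel lives in codimension `≥ 2` -/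
theorem codim_of_alpha_pred_eq (hL : CohB1.IsAmple L) (hn : topologicalKrullDim X = n) {F G : X.Modules}
    (φ : F ⟶ G) [Mono φ] (hF : Coh.IsCoh F) (hG : Coh.IsCoh G) (h : rk F = rk G)
    (he : alpha (n - 1) (hp k L G) ≤ alpha (n - 1) (hp k L F)) :
    ∀ x ∈ CohB1.support (cokernel φ), (2 : WithBot ℕ∞) ≤ ringKrullDim (X.presheaf.stalk x) := by
  have hc : Coh.IsCoh (cokernel φ) := Groth.Agent.PerfA.CohSerre.isCoh_cokernel φ hF.1 hG
  have hS : (ShortComplex.mk φ (cokernel.π φ) (cokernel.condition φ)).ShortExact :=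
    { exact := ShortComplex.exact_cokernel φ, mono_f := inferInstance, epi_g := inferInstance }
  have h1 := hp_add k hL.1 hS hF hG hc
  dsimp only at h1
  rw [h1, alpha_add] at he
  intro x hx
  by_contra hcon
  have h2 := alpha_pred_pos k hL hn hc (generic_notMem_support_cokernel φ hG hF h) hx
    (le_one_of_lt_two (not_le.1 hcon))
  linarith

omit [IsIntegral X] in
/-- the subtop coefficient of an invertible module whose class is a power of `L` -/
theorem alpha_pred_twist (hL : PicF.IsInvertible L) (hn : topologicalKrullDim X = n) (h1 : 1 ≤ n) {F G : X.Modules}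
    (hF : Coh.IsCoh F) (hG : Coh.IsCoh G) (a : ℕ) (h : mc G = mc F * mc L ^ a) :
    alpha (n - 1) (hp k L G) = alpha (n - 1) (hp k L F) + a * alpha n (hp k L F) := by
  rw [hp_of_mc k hL hF hG a h, alpha_shift_pred (natDegree_le k hL hn hF) h1]

omit [IsIntegral X] in
theorem alpha_pred_twist' (hL : PicF.IsInvertible L) (hn : topologicalKrullDim X = n) (h1 : 1 ≤ n) {F G : X.Modules}
    (hF : Coh.IsCoh F) (hG : Coh.IsCoh G) (a : ℕ) (h : mc F = mc G * mc L ^ a) :
    alpha (n - 1) (hp k L G) = alpha (n - 1) (hp k L F) - a * alpha n (hp k L F) := by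
  rw [hp_of_mc' k hL hF hG a h, alpha_shift_pred (natDegree_le k hL hn hF) h1]
  ring

end K848.Stab
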