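import Groth.Agent.CurvesC.ExtUnit
import Groth.Agent.Etcore.Yext
import Groth.Agent.ShStab.K848.Stab

/-!
# Extensions of the structure sheaf and maps from rank one modules
-/

set_option autoImplicit false
universe u
open CategoryTheory CategoryTheory.Limits AlgebraicGeometry Opposite TopologicalSpace Polynomial

namespace K848.Extn

open Groth.Agent Groth.Agent.CurvesC.ExtUnit Abelian
open K848.Rank K848.Hull K848.Poly K848.HB K848.TF K848.Dim K848.Stab
open Groth.Agent.CycB.StalkExact Groth.Agent.Divis.StalkMod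

/-- A nonzero class of `H¹(O)` lifts to a nonsplit extension of `O` by the kernel of `O → Q`, if `H¹(Q) = 0`. -/
theorem exists_nonsplit {X : Scheme.{u}} {I Q : X.Modules} (j : I ⟶ Coh.structureModule X)
    (π : Coh.structureModule X ⟶ Q) (w : j ≫ π = 0) (hS : (ShortComplex.mk j π w).ShortExact)
    (hQ : Subsingleton (Coh.HH X Q 1)) (h : Nontrivial (Coh.HH X (Coh.structureModule X) 1)) :
    ∃ (E : X.Modules) (i : I ⟶ E) (p : E ⟶ Coh.structureModule X) (w : i ≫ p = 0)
      (_ : (ShortComplex.mk i p w).ShortExact), ∀ s : Coh.structureModule X ⟶ E, s ≫ p ≠ 𝟙 _ := by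
  have : HasExt.{u + 1} X.Modules := HasExt.standard _
  have := enoughInjectives_modules X
  obtain ⟨y, hy⟩ := exists_ne (0 : Coh.HH X (Coh.structureModule X) 1)
  let x : Ext.{u + 1} (Coh.structureModule X) (Coh.structureModule X) 1 := (extHH (Coh.structureModule X) 1).symm y
  have hx : x ≠ 0 := fun h0 => hy (by
    have := congrArg (extHH (Coh.structureModule X) 1) h0
    rw [map_zero] at this
    rw [← this]
    exact (AddEquiv.apply_symm_apply _ _).symm)
  have h1 : x.comp (Ext.mk₀ π) (add_zero 1) = 0 :=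
    (extHH Q 1).injective (Subsingleton.elim (h := hQ) _ _)
  obtain ⟨e, he⟩ := Ext.covariant_sequence_exact₂ _ hS x h1
  obtain ⟨E, i, p, w', hE, hcl⟩ := Etcore.Yext.exists_extClass e
  refine ⟨E, i, p, w', hE, fun s hs => hx ?_⟩
  have h2 := (Etcore.Yext.extClass_eq_zero_iff hE).2 ⟨s, hs⟩
  rw [hcl] at h2
  rw [← he, h2, Ext.zero_comp]

/-- a map from a torsion-free module of rank one to a torsion-free module is zero or mono -/
theorem eq_zero_or_mono {X : Scheme.{u}} [IsIntegral X] {F G : X.Modules} (hF : Coh.IsCoh F)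
    (hFt : TorSh.IsTorsionFree F) (hr : rk F = 1) (hG : Coh.IsCoh G) (hGt : TorSh.IsTorsionFree G) (f : F ⟶ G) :
    f = 0 ∨ Mono f := by
  have := finite_stalk hF (genericPoint X)
  by_cases h : stalkLin f (genericPoint X) = 0
  · exact Or.inl (eq_zero_of_generic hG.1 hGt f h)
  · right
    refine mono_of_generic hF.1 hFt f ?_
    rw [rk] at hr
    obtain ⟨v, hv, hv'⟩ := finrank_eq_one_iff'.1 hr
    rw [injective_iff_map_eq_zero]
    intro m hm
    obtain ⟨c, rfl⟩ := hv' m
    rw [map_smul] at hm
    by_cases hc : c = 0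
    · rw [hc, zero_smul]
    · exfalso
      apply h
      have h1 : stalkLin f (genericPoint X) v = 0 := by
        have := congrArg (fun t => c⁻¹ • t) hm
        simpa [smul_smul, inv_mul_cancel₀ hc] using this
      ext m
      obtain ⟨c', rfl⟩ := hv' m
      rw [map_smul, h1, smul_zero]
      rfl

end K848.Extn
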