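import Groth.Agent.ShStab.K848.Stab
import Groth.Agent.CurvesB.SepPoints
import Groth.Agent.VarietyB.DegCartier
import Groth.Agent.Fga.HodgeSec

/-!
# Structure sheaves of closed points
-/

set_option autoImplicit false
universe u
open CategoryTheory CategoryTheory.Limits AlgebraicGeometry Opposite TopologicalSpace Polynomial

namespace K848.Pt

open Groth.Agent Groth.Agent.CurvesB Groth.Agent.CurvesB.SepPoints IsLocalRing

theorem finrank_le_one {K G R : Type*} [Field K] [AddCommGroup G] [Module K G] [CommRing R]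
    (c : K →+* R) (e : G →+ R) (he : Function.Injective e)
    (hsmul : ∀ (a : K) (g : G), e (a • g) = c a * e g)
    (h : ∀ g : G, ∃ a : K, e g = c a) :
    Module.finrank K G ≤ 1 := by
  letI : Module K R := Module.compHom R c
  let el : G →ₗ[K] R := { e with map_smul' := fun a x => hsmul a x }
  let f : K →ₗ[K] R :=
    { toFun := c
      map_add' := fun p q => map_add c p q
      map_smul' := fun a p => map_mul c a p }
  have h1 : LinearMap.range el ≤ LinearMap.range f := by
    rintro _ ⟨g, rfl⟩
    obtain ⟨a, hab⟩ := h g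
    exact ⟨a, hab.symm⟩
  calc Module.finrank K G = Module.finrank K (LinearMap.range el) :=
        (LinearMap.finrank_range_of_inj (f := el) he).symm
    _ ≤ Module.finrank K (LinearMap.range f) := Submodule.finrank_mono h1
    _ ≤ Module.finrank K K := LinearMap.finrank_range_le f
    _ = 1 := by simp

variable (K : Type u) [Field K] {Y : Scheme.{u}} [IsAlgClosed K] [Y.Over (Spec (CommRingCat.of K))]

/-- For the reduced point `x`, the space of functions has dimension `≤ 1`. -/
theorem finrank_point_le [LocallyOfFiniteType (Y ↘ Spec (CommRingCat.of K))] (x : Y)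
    (hx : IsClosed ({x} : Set Y)) (Z : Y.IdealSheafData)
    [IsReduced Z.subscheme] (hZ : (Z.support : Set Y) = {x}) :
    Module.finrank K (Coh.HH Y (ClSub.quotMod Z) 0) ≤ 1 := by
  have hmem : ∀ w ∈ (Z.support : Set Y), ∃ z, Z.subschemeι z = w := by
    intro w hw
    rw [← Scheme.IdealSheafData.range_subschemeι] at hw
    exact hw
  obtain ⟨zx, hzx⟩ := hmem x (by rw [hZ]; simp)
  have hinj : Function.Injective Z.subschemeι := Z.subschemeι.isClosedEmbedding.injective
  have hz : ∀ z : Z.subscheme, z = zx := by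
    intro z
    have h1 : Z.subschemeι z ∈ (Z.support : Set Y) := by
      rw [← Scheme.IdealSheafData.range_subschemeι]; exact ⟨z, rfl⟩
    rw [hZ] at h1
    exact hinj (h1.trans hzx.symm)
  have hcl : IsClosed ({zx} : Set Z.subscheme) := by
    have h1 : ({zx} : Set Z.subscheme) = Z.subschemeι ⁻¹' {Z.subschemeι zx} := by
      ext z'
      simp [hinj.eq_iff]
    rw [h1, hzx]
    exact hx.preimage Z.subschemeι.continuous
  let fZ := Z.subschemeι ≫ (Y ↘ Spec (CommRingCat.of K))
  have hglb : ∀ a : K, glb fZ a = Z.subschemeι.appTop (glb (Y ↘ Spec (CommRingCat.of K)) a) := by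
    intro a
    rfl
  let ev : Γ(Z.subscheme, ⊤) →+* Z.subscheme.residueField zx :=
    ((Z.subscheme.residue zx).hom).comp (Z.subscheme.presheaf.germ ⊤ zx trivial).hom
  have hev : ∀ g : Γ(Z.subscheme, ⊤), ∃ a : K,
        ev g = ev (Z.subschemeι.appTop (glb (Y ↘ Spec (CommRingCat.of K)) a)) := by
    intro g
    obtain ⟨a, ha⟩ := exists_const_sub_mem fZ zx hcl (Z.subscheme.presheaf.germ ⊤ zx trivial g)
    refine ⟨a, ?_⟩
    rw [← hglb]
    exact Ideal.Quotient.eq.2 ha
  have hinj' : Function.Injective ev := by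
    rw [injective_iff_map_eq_zero]
    intro g hg
    rw [← basicOpen_eq_bot_iff, Scheme.basicOpen_eq_bot_iff_forall_evaluation_eq_zero]
    rintro ⟨z, -⟩
    obtain rfl := hz z
    exact hg
  let c : K →+* Z.subscheme.residueField zx :=
    (ev.comp (Z.subschemeι.appTop).hom).comp (glb (Y ↘ Spec (CommRingCat.of K)))
  let E : Coh.HH Y (ClSub.quotMod Z) 0 →+ Z.subscheme.residueField zx :=
    ev.toAddMonoidHom.comp (HZero.equivAdd (ClSub.quotMod Z)).toAddMonoidHom
  refine finrank_le_one c E ?_ ?_ ?_
  · exact hinj'.comp (HZero.equivAdd (ClSub.quotMod Z)).injective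
  · intro a g
    have h1 := HZero.equivAdd_smul_over (ClSub.quotMod Z) a g
    change ev (HZero.equivAdd (ClSub.quotMod Z) (a • g)) = _
    rw [h1]
    exact map_mul ev (Z.subschemeι.appTop (glb (Y ↘ Spec (CommRingCat.of K)) a))
      (show Γ(Z.subscheme, ⊤) from HZero.equivAdd (ClSub.quotMod Z) g)
  · intro g
    exact hev _

open Groth.Agent.Fga in
/-- the Euler characteristic of a module with support of dimension `≤ 0` -/
theorem euler_eq_finrank (k : Type u) [Field k] {X : Scheme.{u}} [X.Over (Spec (CommRingCat.of k))]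
    [IsProper (X ↘ Spec (CommRingCat.of k))] {F : X.Modules} (hF : Coh.IsCoh F)
    (h : topologicalKrullDim (CohB1.support F) ≤ 0) :
    Curv2.euler k X F = Module.finrank k (Coh.HH X F 0) := by
  have hv : ∀ p : ℕ, 0 < p → Module.finrank k (Coh.HH X F p) = 0 := by
    intro p hp
    have := HodgeSec.subsingleton_HH_of_support k hF 0 (by exact_mod_cast h) p hp
    exact Module.finrank_zero_of_subsingleton
  rw [Curv2.euler, finsum_eq_single _ 0]
  · simp
  · intro i hi
    rw [hv i (Nat.pos_of_ne_zero hi)]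
    simp

theorem euler_iso_zero (k : Type u) [Field k] {X : Scheme.{u}} [X.Over (Spec (CommRingCat.of k))]
    {F : X.Modules} (h : IsZero F) : Subsingleton (Coh.HH X F 0) := by
  have e := (HZero.equivAdd F)
  have h2 : Subsingleton Γ(F, ⊤) := by
    refine ⟨fun a b => ?_⟩
    have h1 : 𝟙 F = 0 := h.eq_of_src _ _
    have h3 : ∀ a : Γ(F, ⊤), a = 0 := fun a => by
      have := congr(($h1).app ⊤ a)
      simpa using this
    rw [h3 a, h3 b]
  exact e.injective.subsingleton

open Groth.Agent.Fga in
/-- the structure sheaf of a closed point as a quotient of the structure sheaf -/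
theorem exists_point (k : Type u) [Field k] [IsAlgClosed k] (X : Scheme.{u}) [X.Over (Spec (CommRingCat.of k))]
    [IsProper (X ↘ Spec (CommRingCat.of k))] [Nonempty X] :
    ∃ (Q : X.Modules) (π : Coh.structureModule X ⟶ Q), Epi π ∧ Coh.IsCoh Q ∧
      topologicalKrullDim (CohB1.support Q) ≤ 0 ∧ ¬ IsZero Q ∧ Curv2.euler k X Q = 1 := by
  have : CompactSpace X := (quasiCompact_iff_compactSpace (X ↘ (Spec (CommRingCat.of k)))).mp inferInstance
  obtain ⟨x, -, hx⟩ := IsClosed.exists_closed_singleton (X := X) isClosed_univ Set.univ_nonempty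
  let T : Closeds X := ⟨{x}, hx⟩
  let Z := Scheme.IdealSheafData.vanishingIdeal T
  have : IsReduced Z.subscheme := Ega1.ReducedSub.isReduced_subscheme_vanishingIdeal T
  have hsupp : (Z.support : Set X) = {x} := Scheme.IdealSheafData.coe_support_vanishingIdeal T
  have hc : Coh.IsCoh (ClSub.quotMod Z) := VarietyB.DegCartier.isCoh_quotMod Z
  have hs := VarietyB.DegCartier.support_quotMod_subset Z
  rw [hsupp] at hs
  have hd : topologicalKrullDim (CohB1.support (ClSub.quotMod Z)) ≤ 0 :=
    (Fga.DimLt.topologicalKrullDim_mono hs).trans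
      (topologicalKrullDim_le_zero (Set.finite_singleton x) (by rintro y rfl; exact hx))
  have he : Epi (ClSub.toSubscheme Z) := inferInstance
  have hnt : Nontrivial (Coh.HH X (ClSub.quotMod Z) 0) := by
    have hmem : x ∈ Set.range Z.subschemeι := by
      rw [Scheme.IdealSheafData.range_subschemeι, hsupp]; rfl
    obtain ⟨z, -⟩ := hmem
    have : Nonempty (⊤ : Z.subscheme.Opens) := ⟨⟨z, trivial⟩⟩
    have h1 : Nontrivial Γ(Z.subscheme, ⊤) := Scheme.component_nontrivial _ ⊤
    obtain ⟨a, b, hab⟩ := h1
    exact ⟨(HZero.equivAdd (ClSub.quotMod Z)).symm a, (HZero.equivAdd (ClSub.quotMod Z)).symm b,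
      fun h => hab ((HZero.equivAdd (ClSub.quotMod Z)).symm.injective h)⟩
  have hz : ¬ IsZero (ClSub.quotMod Z) := by
    intro h0
    have h1 := euler_iso_zero k h0
    exact not_subsingleton _ h1
  refine ⟨ClSub.quotMod Z, ClSub.toSubscheme Z, he, hc, hd, hz, ?_⟩
  rw [euler_eq_finrank k hc hd]
  have h1 := finrank_point_le k x hx Z hsupp
  have h2 : 0 < Module.finrank k (Coh.HH X (ClSub.quotMod Z) 0) := by
    have := Groth.Agent.S0002.result k X (ClSub.quotMod Z) hc 0
    exact Module.finrank_pos
  have : Module.finrank k (Coh.HH X (ClSub.quotMod Z) 0) = 1 := by omega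
  rw [this]
  rfl

end K848.Pt
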