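import Groth.Agent.ShStab.K848.HB
import Groth.Agent.S3233
import Groth.Agent.Fga.EulerLEAdd
import Groth.Agent.Grpsch.PicGrp

/-!
# Positivity of the multiplicity
-/

set_option autoImplicit false
universe u
open CategoryTheory CategoryTheory.Limits AlgebraicGeometry Opposite TopologicalSpace Polynomial

namespace K848.Poly
open StabCat

/-- `P(X) - P(X - 1)` -/
noncomputable def nabla (P : ℚ[X]) : ℚ[X] := P - shift (-1) P

theorem nabla_sub (P Q : ℚ[X]) : nabla (P - Q) = nabla P - nabla Q := by
  rw [nabla, nabla, nabla, shift, shift, shift, map_sub]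
  ring

theorem nabla_iter_sub (r : ℕ) (P Q : ℚ[X]) : nabla^[r] (P - Q) = nabla^[r] P - nabla^[r] Q := by
  induction r generalizing P Q with
  | zero => rfl
  | succ r ih => rw [Function.iterate_succ_apply, Function.iterate_succ_apply, Function.iterate_succ_apply,
      nabla_sub, ih]

theorem natDegree_nabla_le {r : ℕ} {P : ℚ[X]} (hP : P.natDegree ≤ r + 1) : (nabla P).natDegree ≤ r := by
  have h1 : (nabla P).natDegree ≤ r + 1 := by
    refine (natDegree_sub_le _ _).trans ?_
    rw [natDegree_shift]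
    simpa using hP
  have h2 : (nabla P).coeff (r + 1) = 0 := by
    rw [nabla, coeff_sub, coeff_shift hP, sub_self]
  rw [natDegree_le_iff_coeff_eq_zero]
  intro N hN
  rcases (Nat.succ_le_of_lt hN).lt_or_eq with h3 | h3
  · exact coeff_eq_zero_of_natDegree_lt (lt_of_le_of_lt h1 h3)
  · rw [← h3]
    exact h2

theorem alpha_nabla {r : ℕ} {P : ℚ[X]} (hP : P.natDegree ≤ r + 1) : alpha r (nabla P) = alpha (r + 1) P := by
  have h := alpha_shift_pred hP (by omega) (-1)
  rw [Nat.add_sub_cancel] at h
  rw [nabla, alpha_sub, h]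
  ring

theorem eval_nabla_iter {r : ℕ} {P : ℚ[X]} (hP : P.natDegree ≤ r) (x : ℚ) :
    (nabla^[r] P).eval x = alpha r P := by
  induction r generalizing P with
  | zero =>
    obtain ⟨c, rfl⟩ := natDegree_eq_zero.1 (Nat.le_zero.1 hP)
    simp [alpha]
  | succ r ih =>
    rw [Function.iterate_succ_apply, ih (natDegree_nabla_le hP), alpha_nabla hP]

end K848.Poly

namespace K848.HB

open Groth.Agent.Fga.PicMon Groth.Agent.Fga.ChiBasic Groth.Agent.Fga.SnapperTwist
open Groth.Agent.Fdesc ShStab StabCat
open K848.Rank K848.Hull K848.Poly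

variable (k : Type u) [Field k] {X : Scheme.{u}} [X.Over (Spec (CommRingCat.of k))]
  [IsProper (X ↘ Spec (CommRingCat.of k))]

theorem euler_eq_eval {L : X.Modules} (hL : PicF.IsInvertible L) {F : X.Modules} (hF : Coh.IsCoh F) :
    (Curv2.euler k X F : ℚ) = (hp k L F).eval 0 := by
  have h := isHilbPoly_hp k hL hF 0
  rw [Nat.cast_zero] at h
  rw [← h]
  have e : Nonempty (twist X L F 0 ≅ F) := by
    rw [← mc_eq_iff, twist, mc_tensor, mc_tensorPow, pow_zero, mul_one]
  obtain ⟨e⟩ := e
  rw [euler_iso k e (isCoh_twist hL hF 0)]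

theorem intNum_eq {L M : X.Modules} (hL : PicF.IsInvertible L) (hM : PicF.IsInvertible M)
    (hLM : Nonempty (CohB1.tensorMod L M ≅ Coh.structureModule X)) (d : ℕ) (hd : topologicalKrullDim X ≤ d)
    (r : ℕ) (F : X.Modules) (hF : Coh.IsCoh F) :
    (FGA.intNum k X d (fun _ : Fin r => M) F : ℚ) = (nabla^[r] (hp k L F)).eval 0 := by
  have := isNoetherian_of_proper k X
  induction r generalizing F with
  | zero =>
    rw [intNum_zero, Groth.Agent.Fga.EulerLEAdd.eulerCharLE_eq_euler k X d hd, euler_eq_eval k hL hF]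
    rfl
  | succ r ih =>
    have h := intNum_cons k X d M (fun _ : Fin r => M) F
    have e : (Fin.cons M (fun _ : Fin r => M) : Fin (r + 1) → X.Modules) = fun _ => M := by
      funext i
      cases i using Fin.cases <;> rfl
    rw [e] at h
    have hMF := isCoh_tensor' hM hF
    have h2 : hp k L (CohB1.tensorMod M F) = shift (-1) (hp k L F) := by
      have := hp_of_mc' k hL hF hMF 1 (by
        rw [mc_tensor, pow_one, mul_right_comm, mul_comm (mc M), ← mc_tensor L M, (mc_eq_iff _ _).2 hLM,
          mc_one, one_mul])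
      simpa using this
    rw [h, Int.cast_sub, ih _ hF, ih _ hMF, h2, ← eval_sub, ← nabla_iter_sub, ← nabla,
      Function.iterate_succ_apply]

/-- the multiplicity of a coherent module with `r`-dimensional support is positive -/
theorem alpha_hp_pos {L : X.Modules} (hL : CohB1.IsAmple L) {F : X.Modules} (hF : Coh.IsCoh F) {r : ℕ}
    (hr : topologicalKrullDim (CohB1.support F) = r) : 0 < alpha r (hp k L F) := by
  obtain ⟨d, hd⟩ := Groth.Agent.EtpbcA.CdFinDim.exists_dim_le (X ↘ Spec (CommRingCat.of k))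
  obtain ⟨M, hM, hLM⟩ := Groth.Agent.Grpsch.PicGrp.exists_inverse hL.1
  have h1 := Groth.Agent.S3233.result k X d hd (fun _ : Fin r => L) (fun _ => M) (fun _ => hL) (fun _ => hLM) F hF hr
  have h2 := intNum_eq k hL.1 hM hLM d hd r F hF
  rw [eval_nabla_iter (natDegree_hp_le k hL.1 hF hr.le)] at h2
  rw [← h2]
  exact_mod_cast h1

theorem exists_dim_eq (k : Type u) [Field k] {X : Scheme.{u}} [X.Over (Spec (CommRingCat.of k))]
    [IsProper (X ↘ Spec (CommRingCat.of k))] {F : X.Modules} (hF : ¬ IsZero F) :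
    ∃ r : ℕ, topologicalKrullDim (CohB1.support F) = r := by
  obtain ⟨d, hd⟩ := exists_dim_le k X (CohB1.support F)
  have hne : Nonempty (CohB1.support F) := by
    by_contra h
    rw [not_nonempty_iff, Set.isEmpty_coe_sort] at h
    exact hF (Groth.Agent.CohqB.DevSupport.isZero_of_support_eq_empty h)
  have h0 : 0 ≤ topologicalKrullDim (CohB1.support F) := Groth.Agent.Fga.IntNum0.topologicalKrullDim_nonneg _
  generalize topologicalKrullDim (CohB1.support F) = t at hd h0
  induction t with
  | bot => simp at h0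
  | coe t =>
    have h1 : t ≤ (d : ℕ∞) := WithBot.coe_le_coe.1 hd
    have h2 : t ≠ ⊤ := by
      rintro rfl
      simp at h1
    lift t to ℕ using h2
    exact ⟨t, rfl⟩

/-- the Hilbert polynomial of a nonzero coherent module is eventually positive -/
theorem hp_pos {L : X.Modules} (hL : CohB1.IsAmple L) {F : X.Modules} (hF : Coh.IsCoh F)
    (h0 : ¬ IsZero F) : PolyLT 0 (hp k L F) := by
  obtain ⟨r, hr⟩ := exists_dim_eq k h0
  have h1 := alpha_hp_pos k hL hF hr
  have h2 := natDegree_hp_le k hL.1 hF hr.le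
  rw [alpha_pos_iff] at h1
  have h3 : (hp k L F).natDegree = r := le_antisymm h2 (le_natDegree_of_ne_zero h1.ne')
  rw [polyLT_iff, sub_zero, leadingCoeff, h3]
  exact h1

theorem hp_nonneg {L : X.Modules} (hL : CohB1.IsAmple L) {F : X.Modules} (hF : Coh.IsCoh F) :
    PolyLE 0 (hp k L F) := by
  by_cases h0 : IsZero F
  · rw [hp_isZero k hL.1 h0]
    exact polyLE_refl _
  · exact PolyLT.le (hp_pos k hL hF h0)

end K848.HB
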