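import Groth.Agent.ShStab.K848.PicOne
import Groth.Agent.ShStab.K848.Extn
import Groth.Agent.Dcoh.LocalD

/-!
# Hulls of rank one submodules, extension of maps and of splittings over big open subsets
-/

set_option autoImplicit false
universe u
open CategoryTheory CategoryTheory.Limits AlgebraicGeometry Opposite TopologicalSpace Polynomial

namespace K848.Hull2

open Groth.Agent.Fga.PicMon
open ShStab StabCat
open Groth.Agent.CycB.StalkExact Groth.Agent.Divis.StalkMod
open K848.Rank K848.Hull K848.Poly K848.HB K848.TF K848.Dim K848.Stab K848.Hartogs K848.PicOne K848.Extn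

variable {X : Scheme.{u}} [IsIntegral X] [IsLocallyNoetherian X]

/-- the open complement of the support of a cokernel -/
noncomputable def cokOpen {F G : X.Modules} (hF : Coh.IsCoh F) (hG : Coh.IsCoh G) (f : F ⟶ G) : X.Opens :=
  ⟨(CohB1.support (cokernel f))ᶜ,
    (Groth.Agent.S0020.result X (cokernel f) (Groth.Agent.PerfA.CohSerre.isCoh_cokernel f hF.1 hG).2).isOpen_compl⟩

omit [IsIntegral X] in
theorem big_cokOpen {F G : X.Modules} (hF : Coh.IsCoh F) (hG : Coh.IsCoh G) (f : F ⟶ G)
    (h : ∀ x ∈ CohB1.support (cokernel f), (2 : WithBot ℕ∞) ≤ ringKrullDim (X.presheaf.stalk x)) :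
    Big (cokOpen hF hG f) := fun x hx => h x (not_not.1 hx)

omit [IsIntegral X] in
theorem bijective_cokOpen {F G : X.Modules} (hF : Coh.IsCoh F) (hG : Coh.IsCoh G) (f : F ⟶ G) [Mono f] (x : X)
    (hx : x ∈ cokOpen hF hG f) : Function.Bijective (stalkLin f x) :=
  ⟨stalkLin_injective f x, (not_mem_support_cokernel_iff f x).1 hx⟩

/-- a map defined up to codimension two extends -/
theorem exists_factor (hn : ∀ x : X, IsIntegrallyClosed (X.presheaf.stalk x)) {U : X.Opens} (hU : Big U)
    {F M G : X.Modules} (φ : F ⟶ M) (hφ : ∀ x ∈ U, Function.Bijective (stalkLin φ x))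
    (hG : Coh.IsCoh G) (hf : FlatMod.IsFinLocFree G) (f : F ⟶ G) : ∃ ψ : M ⟶ G, φ ≫ ψ = f := by
  have h1 := isIso_restrict_of_stalk φ hφ
  obtain ⟨ψ, hψ⟩ := exists_extend hn hU hG hf (F := M)
    (inv ((Scheme.Modules.restrictFunctor U.ι).map φ) ≫ (Scheme.Modules.restrictFunctor U.ι).map f)
  refine ⟨ψ, hom_ext_of_big hn hU hG hf ?_⟩
  rw [Functor.map_comp, hψ, IsIso.hom_inv_id_assoc]

theorem factor_unique (hn : ∀ x : X, IsIntegrallyClosed (X.presheaf.stalk x)) {U : X.Opens} (hU : Big U)
    {F M G : X.Modules} (φ : F ⟶ M) (hφ : ∀ x ∈ U, Function.Bijective (stalkLin φ x))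
    (hG : Coh.IsCoh G) (hf : FlatMod.IsFinLocFree G) {ψ ψ' : M ⟶ G} (h : φ ≫ ψ = φ ≫ ψ') : ψ = ψ' := by
  have h1 := isIso_restrict_of_stalk φ hφ
  refine hom_ext_of_big hn hU hG hf ?_
  have h2 := congrArg (Scheme.Modules.restrictFunctor U.ι).map h
  rw [Functor.map_comp, Functor.map_comp] at h2
  exact (cancel_epi _).1 h2

/-- a short exact sequence that splits up to codimension two splits, if the submodule is locally free -/
theorem exists_retraction (hn : ∀ x : X, IsIntegrallyClosed (X.presheaf.stalk x)) {U : X.Opens} (hU : Big U)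
    {A V N F : X.Modules} (hA : Coh.IsCoh A) (hAf : FlatMod.IsFinLocFree A) (a : A ⟶ V) (b : V ⟶ N) (w : a ≫ b = 0)
    (hex : (ShortComplex.mk a b w).ShortExact) (ι : F ⟶ V)
    (hb : ∀ x ∈ U, Function.Bijective (stalkLin (ι ≫ b) x)) : ∃ r : V ⟶ A, a ≫ r = 𝟙 A := by
  let R := Scheme.Modules.restrictFunctor U.ι
  have h1 : IsIso (R.map (ι ≫ b)) := isIso_restrict_of_stalk (ι ≫ b) hb
  have hR := hex.map_of_exact R
  have := hR.mono_f
  let s : R.obj N ⟶ R.obj V := inv (R.map (ι ≫ b)) ≫ R.map ι
  have hs : s ≫ R.map b = 𝟙 _ := by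
    rw [Category.assoc, ← Functor.map_comp, IsIso.inv_hom_id]
  let sp := ShortComplex.Splitting.ofExactOfSection _ hR.exact s hs hR.mono_f
  obtain ⟨r, hr⟩ := exists_extend hn hU hA hAf (F := V) sp.r
  refine ⟨r, hom_ext_of_big hn hU hA hAf ?_⟩
  rw [Functor.map_comp, hr, CategoryTheory.Functor.map_id]
  exact sp.f_r

section Slope

variable (k : Type u) [Field k] [X.Over (Spec (CommRingCat.of k))]
  [IsProper (X ↘ Spec (CommRingCat.of k))] {L : X.Modules} {n : ℕ}

omit [IsLocallyNoetherian X] in
/-- A coherent torsion-free module of rank one on a regular integral proper scheme whose Picard group is generated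
by `L`: hull, subtop coefficient, extension property. -/
theorem exists_hull_cls (hL : CohB1.IsAmple L) (hn : topologicalKrullDim X = n) (h1 : 1 ≤ n)
    (hreg : ∀ x : X, IsRegularLocalRing (X.presheaf.stalk x))
    [PicGrp.Law X] (hgen : ∀ c : PicLoc.PicSet X, ∃ n : ℤ, c = PicGrp.cls L hL.1 ^ n)
    {F : X.Modules} (hF : Coh.IsCoh F) (htf : TorSh.IsTorsionFree F) (hr : rk F = 1) :
    ∃ (M : X.Modules) (hM : PicF.IsInvertible M) (φ : F ⟶ M) (a : ℤ), Mono φ ∧
      PicGrp.cls M hM = PicGrp.cls L hL.1 ^ a ∧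
      (∀ x ∈ CohB1.support (cokernel φ), (2 : WithBot ℕ∞) ≤ ringKrullDim (X.presheaf.stalk x)) ∧
      alpha (n - 1) (hp k L F) = alpha (n - 1) (hp k L (Coh.structureModule X)) +
        a * alpha n (hp k L (Coh.structureModule X)) ∧
      ∀ (G : X.Modules), Coh.IsCoh G → FlatMod.IsFinLocFree G → ∀ f : F ⟶ G, ∃ ψ : M ⟶ G, φ ≫ ψ = f := by
  have := Groth.Agent.Fga.SnapperTwist.isNoetherian_of_proper k X
  obtain ⟨M, hM, φ, U, hφ, hU, hbij, hcod⟩ := exists_hull hreg hF htf hr
  obtain ⟨a, ha⟩ := hgen (PicGrp.cls M hM)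
  refine ⟨M, hM, φ, a, hφ, ha, hcod, ?_, ?_⟩
  · rw [← alpha_pred_invertible hL.1 k hn h1 hM a ha]
    exact alpha_pred_eq k hL.1 hn φ hF (isCoh_of_isInvertible hM) hcod
  · intro G hG hf f
    exact exists_factor (isIntegrallyClosed_of_regular hreg) hU φ hbij hG hf f

omit [IsIntegral X] [IsLocallyNoetherian X] in
theorem isTorsionFree_of_isInvertible {M : X.Modules} (hM : PicF.IsInvertible M) : TorSh.IsTorsionFree M :=
  isTorsionFree_of_isFinLocFree (isFinLocFree_of_isInvertible hM)

omit [IsLocallyNoetherian X] in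
/-- nonsplit extensions of a subsheaf of `L` of codimension two colength by the structure sheaf are slope-stable. -/
theorem isMuStable_extension (hL : CohB1.IsAmple L) (hn : topologicalKrullDim X = n) (h1 : 1 ≤ n)
    (hreg : ∀ x : X, IsRegularLocalRing (X.presheaf.stalk x))
    [PicGrp.Law X] (hgen : ∀ c : PicLoc.PicSet X, ∃ n : ℤ, c = PicGrp.cls L hL.1 ^ n)
    {N : X.Modules} (ι : N ⟶ L) [Mono ι] (hN : Coh.IsCoh N)
    (hZ : ∀ x ∈ CohB1.support (cokernel ι), (2 : WithBot ℕ∞) ≤ ringKrullDim (X.presheaf.stalk x))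
    {V : X.Modules} (hV : Coh.IsCoh V) (hVtf : TorSh.IsTorsionFree V)
    (a : Coh.structureModule X ⟶ V) (b : V ⟶ N) (w : a ≫ b = 0)
    (hex : (ShortComplex.mk a b w).ShortExact)
    (hns : ∀ r : V ⟶ Coh.structureModule X, a ≫ r ≠ 𝟙 (Coh.structureModule X)) :
    IsMuStable k X L V n := by
  have := Groth.Agent.Fga.SnapperTwist.isNoetherian_of_proper k X
  have hnorm := isIntegrallyClosed_of_regular hreg
  have := hex.mono_f
  have hOi : PicF.IsInvertible (Coh.structureModule X) := Groth.Agent.Fdesc.LocGen.isInvertible_structureModule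
  have hO : Coh.IsCoh (Coh.structureModule X) := isCoh_structureModule
  have hLc := isCoh_of_isInvertible hL.1
  have hNtf : TorSh.IsTorsionFree N := isTorsionFree_of_mono ι (isTorsionFree_of_isInvertible hL.1)
  have hNr : rk N = 1 := by
    have hS : (ShortComplex.mk ι (cokernel.π ι) (cokernel.condition ι)).ShortExact :=
      { exact := ShortComplex.exact_cokernel ι, mono_f := inferInstance, epi_g := inferInstance }
    have h2 := rk_shortExact hS hLc
    dsimp only at h2
    rw [rk_structureModule_of_isInvertible hL.1] at h2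
    have hc := Groth.Agent.PerfA.CohSerre.isCoh_cokernel ι hN.1 hLc
    have h3 : rk (cokernel ι) = 0 := by
      rw [rk_eq_zero_iff hc]
      intro hg
      have h4 := hZ _ hg
      have h5 : ringKrullDim (X.presheaf.stalk (genericPoint X)) = 0 :=
        ringKrullDim_eq_zero_of_field X.functionField
      rw [h5] at h4
      exact absurd h4 (by decide)
    omega
  have hVr : rk V = 2 := by
    have h2 := rk_shortExact hex hV
    dsimp only at h2
    rw [rk_structureModule, hNr] at h2
    exact h2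
  have hα := alpha_O_pos k hL hn
  -- the subtop coefficients of `N` and `V`
  have hN1 : alpha (n - 1) (hp k L N) = alpha (n - 1) (hp k L (Coh.structureModule X)) +
      alpha n (hp k L (Coh.structureModule X)) := by
    rw [alpha_pred_eq k hL.1 hn ι hN hLc hZ]
    have h2 := alpha_pred_invertible hL.1 k hn h1 hL.1 1 (by rw [zpow_one])
    rw [h2]
    push_cast
    ring
  have hV1 : alpha (n - 1) (hp k L V) = 2 * alpha (n - 1) (hp k L (Coh.structureModule X)) +
      alpha n (hp k L (Coh.structureModule X)) := by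
    have h2 := hp_add k hL.1 hex hO hV hN
    dsimp only at h2
    rw [h2, alpha_add, hN1]
    ring
  refine isMuStable_of k hL hn hV hVtf (by omega) ?_
  intro F f hf hF hF0 hF1
  have hFr : rk F = 1 := by omega
  have hFt : TorSh.IsTorsionFree F := isTorsionFree_of_mono f hVtf
  rw [hFr, hVr, hV1]
  push_cast
  rcases eq_zero_or_mono hF hFt hFr hN hNtf (f ≫ b) with h0 | hm
  · let l := hex.exact.lift f h0
    have hl : l ≫ a = f := hex.exact.lift_f f h0
    have : Mono (l ≫ a) := by rw [hl]; exact hf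
    have : Mono l := mono_of_mono l a
    have h2 := alpha_pred_le k hL hn l hF hO (by rw [hFr, rk_structureModule])
    linarith
  · obtain ⟨M, hM, φ, c, hφ, hcls, hcod, hc, hext⟩ := exists_hull_cls k hL hn h1 hreg hgen hF hFt hFr
    obtain ⟨ψ, hψ⟩ := hext L hLc (isFinLocFree_of_isInvertible hL.1) ((f ≫ b) ≫ ι)
    have hψ0 : ψ ≠ 0 := by
      rintro rfl
      rw [Limits.comp_zero] at hψ
      have : Mono ((f ≫ b) ≫ ι) := mono_comp _ _
      rw [← hψ] at this
      have h3 : IsZero F := by
        rw [IsZero.iff_id_eq_zero, ← cancel_mono (0 : F ⟶ L)]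
        simp
      rw [hp_isZero k hL.1 h3] at hc
      exact not_isZero_of_rk (E := F) (by omega) h3
    have hψm : Mono ψ := (eq_zero_or_mono (isCoh_of_isInvertible hM) (isTorsionFree_of_isInvertible hM)
      (rk_structureModule_of_isInvertible hM) hLc (isTorsionFree_of_isInvertible hL.1) ψ).resolve_left hψ0
    have h3 := alpha_pred_le k hL hn ψ (isCoh_of_isInvertible hM) hLc (by
      rw [rk_structureModule_of_isInvertible hM, rk_structureModule_of_isInvertible hL.1])
    rw [alpha_pred_invertible hL.1 k hn h1 hM c hcls,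
      alpha_pred_invertible hL.1 k hn h1 hL.1 1 (by rw [zpow_one])] at h3
    have hc1 : (c : ℚ) ≤ 1 := by
      have h4 : (c : ℚ) * alpha n (hp k L (Coh.structureModule X)) ≤
          1 * alpha n (hp k L (Coh.structureModule X)) := by
        push_cast at h3
        linarith
      exact le_of_mul_le_mul_right h4 hα
    have hc1' : c ≤ 1 := by exact_mod_cast hc1
    rcases hc1'.lt_or_eq with h4 | h4
    · have h5 : c ≤ 0 := by omega
      have h6 : (c : ℚ) ≤ 0 := by exact_mod_cast h5
      have h7 : (c : ℚ) * alpha n (hp k L (Coh.structureModule X)) ≤ 0 := mul_nonpos_of_nonpos_of_nonneg h6 hα.le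
      rw [hc]
      linarith
    · exfalso
      subst h4
      have h5 := codim_of_alpha_pred_eq k hL hn (f ≫ b) hF hN (by rw [hFr, hNr]) (by
        rw [hN1, hc]
        push_cast
        linarith)
      obtain ⟨r, hr⟩ := exists_retraction hnorm (big_cokOpen hF hN (f ≫ b) h5) hO
        (isFinLocFree_of_isInvertible hOi) a b w hex f (bijective_cokOpen hF hN (f ≫ b))
      exact hns r hr

end Slope

end K848.Hull2
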