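import Groth.Agent.ShStab.K848.K3Ext
import Groth.Prelude.Def_Canon
import Mathlib.LinearAlgebra.Dual.Lemmas
import Groth.Agent.S19675
import Groth.Agent.S0484
import Groth.Agent.Picfga.CurveRelDim

/-!
# Serre duality on a K3 surface
-/

set_option autoImplicit false
universe u
open CategoryTheory CategoryTheory.Limits AlgebraicGeometry Opposite TopologicalSpace Polynomial

namespace K848.K3

open Groth.Agent Groth.Agent.CurvesB
open Groth.Agent.Fga.PicMon
open ShStab StabCat
open K848.Rank K848.Hull K848.Poly K848.HB K848.TF K848.Dim K848.Stab K848.Hartogs K848.PicOne K848.Extn K848.Hull2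
open K848.Slope K848.K3Ext

theorem hasExt (X : Scheme.{u}) : HasExt.{u} X.Modules := by
  have : IsGrothendieckAbelian.{u} X.Modules := Groth.Agent.S0484.result _ X.ringCatSheaf
  infer_instance

theorem subsingleton_of_dual {k V : Type*} [Field k] [AddCommGroup V] [Module k V]
    (h : Subsingleton (Module.Dual k V)) : Subsingleton V := (Module.subsingleton_dual_iff k).1 h

section

variable (k : Type u) [Field k] [IsAlgClosed k]
    (S : Scheme.{u}) [S.Over (Spec (CommRingCat.of k))] [IsIntegral S]
    [Smooth (S ↘ Spec (CommRingCat.of k))] (hdim : topologicalKrullDim S = 2)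
    (hK : Canon.IsTopDiff (S ↘ Spec (CommRingCat.of k)) 2 (Coh.structureModule S))

include hdim hK

theorem subsingleton_H2 
    (hproj : ∃ (n : ℕ) (ι : S ⟶ CohB1.ProjSpace n k), IsClosedImmersion ι ∧
      ι ≫ CohB1.ProjSpace.toSpec n k = S ↘ Spec (CommRingCat.of k))
    {V : S.Modules} (hV : Coh.IsCoh V) (h : ∀ g : V ⟶ Coh.structureModule S, g = 0) :
    Subsingleton (Coh.HH S V 2) := by
  have : SmoothOfRelativeDimension 2 (S ↘ Spec (CommRingCat.of k)) :=
    Picfga.CurveRelDim.smoothOfRelativeDimension_of_topologicalKrullDim_eq k S _ 2 (by exact_mod_cast hdim)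
  have := hasExt S
  obtain ⟨n, ι, hι, hw⟩ := hproj
  obtain ⟨e⟩ := Groth.Agent.S19675.result k 2 n S ι hw (Coh.structureModule S) hK V hV 0 (by omega)
  have h1 : Subsingleton (V ⟶ Coh.structureModule S) := ⟨fun a b => by rw [h a, h b]⟩
  have h2 : Subsingleton (Abelian.Ext V (Coh.structureModule S) 0) :=
    (Abelian.Ext.homEquiv₀ (X := V) (Y := Coh.structureModule S)).subsingleton
  have h3 : Subsingleton (Module.Dual k (Coh.HH S V 2)) := e.symm.toEquiv.subsingleton
  exact subsingleton_of_dual h3

variable [IsProper (S ↘ Spec (CommRingCat.of k))]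

omit [IsAlgClosed k] in
theorem euler_dual {L M : S.Modules} (hL : PicF.IsInvertible L) (hM : PicF.IsInvertible M)
    (e : mc L * mc M = 1) : Curv2.euler k S L = Curv2.euler k S M := by
  have : SmoothOfRelativeDimension 2 (S ↘ Spec (CommRingCat.of k)) :=
    Picfga.CurveRelDim.smoothOfRelativeDimension_of_topologicalKrullDim_eq k S _ 2 (by exact_mod_cast hdim)
  have h0 : Nonempty (CohB1.tensorMod L M ≅ Coh.structureModule S) := by
    rw [← mc_eq_iff, mc_tensor, mc_one, e]
  obtain ⟨e1⟩ : Nonempty (CohB1.tensorMod (Coh.structureModule S) M ≅ M) := by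
    rw [← mc_eq_iff, mc_tensor, mc_one, one_mul]
  have h2 : ∀ m p : ℕ, m + p = 2 → Module.finrank k (Coh.HH S L p) =
      Module.finrank k (Coh.HH S (CohB1.tensorMod (Coh.structureModule S) M) m) := fun m p hmp =>
    K461.SerreDual.finrank_eq k 2 hK h0 (isCoh_of_isInvertible hL).1 m p hmp
  rw [← euler_iso k e1 (Groth.Agent.Sga67.CohBasic.isCoh_of_iso e1.symm (isCoh_of_isInvertible hM)),
    euler_eq k (by rw [hdim]; exact le_rfl), euler_eq k (by rw [hdim]; exact le_rfl), h2 2 0 rfl, h2 1 1 rfl, h2 0 2 rfl]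
  ring

omit [IsAlgClosed k] in
/-- the linear coefficient of the Hilbert polynomial of the structure sheaf vanishes -/
theorem alpha_one {L : S.Modules} (hL : PicF.IsInvertible L) [PicGrp.Law S] :
    alpha 1 (hp k L (Coh.structureModule S)) = 0 := by
  obtain ⟨M, hM, hMc⟩ := exists_module ((PicGrp.cls L hL)⁻¹)
  have h1 : mc M * mc L ^ 1 = 1 := mc_mul_of_cls_eq_inv hL hM 1 (by rw [hMc, pow_one])
  rw [pow_one] at h1
  have h2 := euler_dual k S hdim hK hL hM (by rw [mul_comm]; exact h1)
  have h3 : (Curv2.euler k S L : ℚ) = Curv2.euler k S M := by rw [h2]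
  rw [euler_eq_eval k hL (isCoh_of_isInvertible hL), euler_eq_eval k hL (isCoh_of_isInvertible hM),
    hp_invertible hL k hL 1 (by rw [zpow_one]), hp_invertible hL k hM (-1) (by rw [hMc, zpow_neg_one]),
    eval_shift, eval_shift] at h3
  have h4 : (hp k L (Coh.structureModule S)).natDegree ≤ 2 :=
    natDegree_le k hL (n := 2) (by exact_mod_cast hdim) isCoh_structureModule
  have h5 := Polynomial.as_sum_range_C_mul_X_pow' (p := hp k L (Coh.structureModule S)) (n := 3) (by omega)
  rw [h5] at h3
  simp only [Finset.sum_range_succ, Finset.sum_range_zero] at h3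
  simp at h3
  rw [alpha]
  norm_num
  linarith

end

end K848.K3
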