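import Groth.Agent.ShStab.K848.PicOne
import Groth.Agent.Sga67.ClosedPush
import Groth.Agent.CohqB.FinAmple
import Groth.Agent.PerfC.FlasquePush
import Groth.Agent.Smoothlim.ConormalRes
import Groth.Agent.CohqA.H1Lift

/-!
# Direct images from an integral divisor: subtop coefficients and purity
-/

set_option autoImplicit false
universe u
open CategoryTheory CategoryTheory.Limits AlgebraicGeometry Opposite TopologicalSpace Polynomial

namespace K848.PushCurve

open Groth.Agent Groth.Agent.Fga.PicMon
open ShStab StabCat
open Groth.Agent.CycB.StalkExact Groth.Agent.Divis.StalkMod Groth.Agent.VarietyB.ExactLoc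
open K848.Rank K848.Hull K848.Poly K848.HB K848.TF K848.Dim K848.Stab K848.Hartogs K848.PicOne

theorem epi_unitToPush {X C : Scheme.{u}} (κ : C ⟶ X) [IsClosedImmersion κ] :
    Epi (ClSub.unitToPush κ) := by
  have h := CohqA.H1Lift.epi_toAb_of_locSurj (ClSub.unitToPush κ)
    (CohqA.H1Lift.locSurj_of_affine _ fun U => κ.app_surjective U.1 U.2)
  exact (SheafOfModules.toSheaf X.ringCatSheaf).epi_of_epi_map h

theorem map_shortExact {X C : Scheme.{u}} (i : C ⟶ X) [IsClosedImmersion i] {S : ShortComplex C.Modules}
    (hS : S.ShortExact) : (S.map (Coh.push i)).ShortExact := by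
  have := Sga67.ClosedPush.preservesFiniteColimits_pushforward i
  have : PreservesFiniteLimits (Coh.push i) := PerfC.FlasquePush.preservesFiniteLimits_pushforward i
  exact hS.map_of_exact (Coh.push i)

theorem dim_image {X C : Scheme.{u}} (i : C ⟶ X) [IsClosedImmersion i] (T : Set C) :
    topologicalKrullDim (i '' T) = topologicalKrullDim T := by
  have h := (i.isClosedEmbedding.isEmbedding.homeomorphImage T)
  exact (IsHomeomorph.topologicalKrullDim_eq _ h.isHomeomorph).symm

variable (k : Type u) [Field k] {X C : Scheme.{u}} [X.Over (Spec (CommRingCat.of k))]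
  [IsProper (X ↘ Spec (CommRingCat.of k))] {L : X.Modules} [IsIntegral C] (i : C ⟶ X) [IsClosedImmersion i] {d : ℕ}

/-- the multiplicity in dimension `d = dim C` of a direct image from an integral closed subscheme is the rank times
that of the structure sheaf. -/
theorem alpha_push (hL : PicF.IsInvertible L) (hd : topologicalKrullDim C = d) {A : C.Modules} (hA : Coh.IsCoh A) :
    alpha d (hp k L ((Coh.push i).obj A)) =
      rk A * alpha d (hp k L ((Coh.push i).obj (Coh.structureModule C))) := by
  have := Groth.Agent.Fga.SnapperTwist.isNoetherian_of_proper k X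
  have hloc : IsLocallyNoetherian C := LocallyOfFiniteType.isLocallyNoetherian i
  have : CompactSpace C := i.isClosedEmbedding.compactSpace
  have : IsNoetherian C := { }
  refine rank_formula (fun F => alpha d (hp k L ((Coh.push i).obj F))) ?_ ?_ A hA
  · intro S hS h1 h2 h3
    have h4 := hp_add k hL (map_shortExact i hS) (CohqB.FinAmple.isCoh_push i h1)
      (CohqB.FinAmple.isCoh_push i h2) (CohqB.FinAmple.isCoh_push i h3)
    exact (congrArg (alpha d) h4).trans (alpha_add d _ _)
  · intro G hG h
    refine alpha_hp_eq_zero k hL (CohqB.FinAmple.isCoh_push i hG) ?_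
    rw [Sga67.ClosedPush.support_pushforward]
    change topologicalKrullDim (i '' CohB1.support G) < _
    rw [dim_image]
    exact lt_of_add_one_le (dim_support_le_pred hd hG h)

omit [IsIntegral C] in
theorem hp_push_structureModule (hL : PicF.IsInvertible L) :
    hp k L (Coh.structureModule X) = hp k L (ClSub.idealMod i.ker) +
      hp k L ((Coh.push i).obj (Coh.structureModule C)) := by
  have := Groth.Agent.Fga.SnapperTwist.isNoetherian_of_proper k X
  have hO : Coh.IsCoh (Coh.structureModule X) := isCoh_structureModule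
  have hC : Coh.IsCoh ((Coh.push i).obj (Coh.structureModule C)) := CohqB.FinAmple.isCoh_push i isCoh_structureModule
  have := epi_unitToPush i
  have hK : Coh.IsCoh (kernel (ClSub.unitToPush i)) := PerfA.CohSerre.isCoh_kernel _ hO hC.1
  have hS : (ShortComplex.mk (kernel.ι (ClSub.unitToPush i)) (ClSub.unitToPush i) (kernel.condition _)).ShortExact :=
    { exact := ShortComplex.exact_kernel _, mono_f := inferInstance, epi_g := inferInstance }
  have h := hp_add k hL hS hK hO hC
  dsimp only at h
  rw [h, hp_iso k hL hK (Smoothlim.ConormalRes.idealModKerIso i).symm]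

/-- A section of the direct image of a torsion-free module on an integral closed subscheme is zero if its germ at the
generic point of the subscheme is zero. -/
theorem hom_push_eq_zero {A : C.Modules} (hA : Coh.IsQCoh A) (hAt : TorSh.IsTorsionFree A)
    (s : Coh.structureModule X ⟶ (Coh.push i).obj A) (h : stalkLin s (i (genericPoint C)) = 0) : s = 0 := by
  ext V f
  change s.app V f = 0
  let t : Γ(A, i ⁻¹ᵁ V) := s.app V f
  suffices ht : t = 0 from ht
  refine eq_zero_of_germ _ fun c hc => ?_
  have hη : genericPoint C ∈ i ⁻¹ᵁ V := (gen c).mem_open (i ⁻¹ᵁ V).isOpen hc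
  have hη' : i (genericPoint C) ∈ V := hη
  apply spec_injective hA hAt c
  rw [map_zero]
  have h1 : A.presheaf.stalkSpecializes (gen c) (A.presheaf.germ (i ⁻¹ᵁ V) c hc t) =
      A.presheaf.germ (i ⁻¹ᵁ V) (genericPoint C) hη t :=
    TopCat.Presheaf.germ_stalkSpecializes_apply A.presheaf hc (gen c) t
  rw [h1]
  have h2 : ((Coh.push i).obj A).presheaf.germ V (i (genericPoint C)) hη' (s.app V f) = 0 := by
    rw [← stalkLin_germ, h]
    rfl
  have h3 : ((Coh.push i).obj A).presheaf.germ V (i (genericPoint C)) hη' (s.app V f) =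
      ((Coh.push i).obj A).presheaf.germ V (i (genericPoint C)) hη' 0 := by
    rw [h2, map_zero]
  obtain ⟨W, hW, iU, iV, e⟩ := TopCat.Presheaf.germ_eq _ _ hη' hη' _ _ h3
  have h4 : A.presheaf.map (homOfLE (show i ⁻¹ᵁ W ≤ i ⁻¹ᵁ V from fun z hz => leOfHom iU hz)).op t = 0 := by
    refine Eq.trans e ?_
    rw [map_zero]
    rfl
  have h5 : A.presheaf.germ (i ⁻¹ᵁ W) (genericPoint C) hW
      (A.presheaf.map (homOfLE (show i ⁻¹ᵁ W ≤ i ⁻¹ᵁ V from fun z hz => leOfHom iU hz)).op t) =
      A.presheaf.germ (i ⁻¹ᵁ V) (genericPoint C) hη t :=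
    TopCat.Presheaf.germ_res_apply A.presheaf _ _ hW t
  rw [← h5, h4, map_zero]

end K848.PushCurve
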