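import Groth.Agent.ShStab.K848.Hull2
import Groth.Agent.S0938

/-!
# Slopes of submodules of modules cogenerated by the structure sheaf
-/

set_option autoImplicit false
universe u
open CategoryTheory CategoryTheory.Limits AlgebraicGeometry Opposite TopologicalSpace Polynomial

namespace K848.SubFree

open Groth.Agent.Fga.PicMon
open ShStab StabCat
open Groth.Agent.CycB.StalkExact Groth.Agent.Divis.StalkMod
open K848.Rank K848.Hull K848.Poly K848.HB K848.TF K848.Dim K848.Stab K848.Hartogs K848.PicOne K848.Extn K848.Hull2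

variable {X : Scheme.{u}} [IsIntegral X]

theorem isTorsionFree_O : TorSh.IsTorsionFree (Coh.structureModule X) :=
  isTorsionFree_of_isInvertible Groth.Agent.Fdesc.LocGen.isInvertible_structureModule

theorem isFinLocFree_O : FlatMod.IsFinLocFree (Coh.structureModule X) :=
  isFinLocFree_of_isInvertible Groth.Agent.Fdesc.LocGen.isInvertible_structureModule

/-- every nonzero submodule of a free module has a nonzero coordinate -/
theorem exists_coord {e : ℕ} {F : X.Modules} (ι : F ⟶ FlatMod.freeMod X e) [Mono ι] (h : ¬ IsZero F) :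
    ∃ c : FlatMod.freeMod X e ⟶ Coh.structureModule X, ι ≫ c ≠ 0 := by
  by_contra hcon
  push Not at hcon
  apply h
  have h1 : ι = 0 := by
    have h2 : ι ≫ ∑ j : Fin e, Groth.Agent.S0938.pr X j ≫ Sigma.ι (fun _ : Fin e => Coh.structureModule X) j = 0 := by
      rw [Preadditive.comp_sum]
      refine Finset.sum_eq_zero fun j _ => ?_
      rw [← Category.assoc, hcon, Limits.zero_comp]
    rw [Groth.Agent.S0938.sum_pr_ι] at h2
    exact (Category.comp_id ι).symm.trans h2
  rw [IsZero.iff_id_eq_zero, ← cancel_mono ι, h1]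
  simp

variable (k : Type u) [Field k] [X.Over (Spec (CommRingCat.of k))]
  [IsProper (X ↘ Spec (CommRingCat.of k))] {L : X.Modules} {n : ℕ}

/-- the subtop coefficient of a rank one submodule of the structure sheaf -/
theorem rank_one_sub (hL : CohB1.IsAmple L) (hn : topologicalKrullDim X = n) (h1 : 1 ≤ n)
    (hreg : ∀ x : X, IsRegularLocalRing (X.presheaf.stalk x))
    [PicGrp.Law X] (hgen : ∀ c : PicLoc.PicSet X, ∃ n : ℤ, c = PicGrp.cls L hL.1 ^ n)
    {F : X.Modules} (hF : Coh.IsCoh F) (hr : rk F = 1) (f : F ⟶ Coh.structureModule X) [Mono f] :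
    ∃ a : ℤ, a ≤ 0 ∧ alpha (n - 1) (hp k L F) = alpha (n - 1) (hp k L (Coh.structureModule X)) +
        a * alpha n (hp k L (Coh.structureModule X)) := by
  have hO : Coh.IsCoh (Coh.structureModule X) := isCoh_structureModule
  have hα := alpha_O_pos k hL hn
  obtain ⟨M, hM, φ, a, hφ, hcls, hcod, hc, hext⟩ := exists_hull_cls k hL hn h1 hreg hgen hF
    (isTorsionFree_of_mono f isTorsionFree_O) hr
  refine ⟨a, ?_, hc⟩
  have h2 := alpha_pred_le k hL hn f hF hO (by rw [hr, rk_structureModule])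
  rw [hc] at h2
  have h3 : (a : ℚ) * alpha n (hp k L (Coh.structureModule X)) ≤
      0 * alpha n (hp k L (Coh.structureModule X)) := by linarith
  exact_mod_cast le_of_mul_le_mul_right h3 hα

/-- slopes of submodules of a module cogenerated by the structure sheaf -/
theorem sub_cogen (hL : CohB1.IsAmple L) (hn : topologicalKrullDim X = n) (h1 : 1 ≤ n)
    (hreg : ∀ x : X, IsRegularLocalRing (X.presheaf.stalk x))
    [PicGrp.Law X] (hgen : ∀ c : PicLoc.PicSet X, ∃ n : ℤ, c = PicGrp.cls L hL.1 ^ n)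
    {G : X.Modules} (hsep : ∀ (F : X.Modules) (ι : F ⟶ G), Mono ι → ¬ IsZero F →
      ∃ c : G ⟶ Coh.structureModule X, ι ≫ c ≠ 0) (r : ℕ) :
    ∀ (F : X.Modules) (ι : F ⟶ G), Mono ι → Coh.IsCoh F → TorSh.IsTorsionFree F → rk F = r + 1 →
      ∃ m : ℤ, m ≤ 0 ∧ alpha (n - 1) (hp k L F) =
        (r + 1) * alpha (n - 1) (hp k L (Coh.structureModule X)) +
          m * alpha n (hp k L (Coh.structureModule X)) ∧
        (m = 0 → ∃ (F₁ : X.Modules) (j : F₁ ⟶ F) (φ : F₁ ⟶ Coh.structureModule X), Mono j ∧ Mono φ ∧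
          Coh.IsCoh F₁ ∧ rk F₁ = 1 ∧
          ∀ x ∈ CohB1.support (cokernel φ), (2 : WithBot ℕ∞) ≤ ringKrullDim (X.presheaf.stalk x)) := by
  have := Groth.Agent.Fga.SnapperTwist.isNoetherian_of_proper k X
  have hO : Coh.IsCoh (Coh.structureModule X) := isCoh_structureModule
  have hα := alpha_O_pos k hL hn
  induction r with
  | zero =>
    intro F ι hι hF hFt hr
    obtain ⟨c, hc⟩ := hsep F ι hι (not_isZero_of_rk (by omega))
    have hm : Mono (ι ≫ c) := (eq_zero_or_mono hF hFt (by omega) hO isTorsionFree_O (ι ≫ c)).resolve_left hc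
    obtain ⟨a, ha, hFa⟩ := rank_one_sub k hL hn h1 hreg hgen hF (by omega) (ι ≫ c)
    refine ⟨a, ha, by rw [hFa]; push_cast; ring, fun h0 => ⟨F, 𝟙 F, ι ≫ c, inferInstance, hm, hF, by omega, ?_⟩⟩
    refine codim_of_alpha_pred_eq k hL hn (ι ≫ c) hF hO (by rw [hr, rk_structureModule]) ?_
    rw [hFa, h0]
    simp
  | succ r ih =>
    intro F ι hι hF hFt hr
    obtain ⟨c, hc⟩ := hsep F ι hι (not_isZero_of_rk (by omega))
    let f := ι ≫ c
    have hK : Coh.IsCoh (kernel f) := Groth.Agent.PerfA.CohSerre.isCoh_kernel f hF hO.1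
    have hJ : Coh.IsCoh (cokernel (kernel.ι f)) := Groth.Agent.PerfA.CohSerre.isCoh_cokernel _ hK.1 hF
    have hS : (ShortComplex.mk (kernel.ι f) (cokernel.π (kernel.ι f)) (cokernel.condition _)).ShortExact :=
      { exact := ShortComplex.exact_cokernel _, mono_f := inferInstance, epi_g := inferInstance }
    let g : cokernel (kernel.ι f) ⟶ Coh.structureModule X := Abelian.factorThruCoimage f
    have hg : cokernel.π (kernel.ι f) ≫ g = f := Abelian.coimage.fac f
    have hgm : Mono g := inferInstanceAs (Mono (Abelian.factorThruCoimage f))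
    have hr1 := rk_shortExact hS hF
    dsimp only at hr1
    have hJ1 : rk (cokernel (kernel.ι f)) ≤ 1 := by
      have := rk_le_of_mono g hO
      rwa [rk_structureModule] at this
    have hJ0 : rk (cokernel (kernel.ι f)) ≠ 0 := by
      refine rk_ne_zero g hJ isTorsionFree_O fun h0 => hc ?_
      change f = 0
      rw [← hg, h0.eq_of_src g 0, Limits.comp_zero]
    have hJr : rk (cokernel (kernel.ι f)) = 1 := by omega
    have hKr : rk (kernel f) = r + 1 := by omega
    have hm2 : Mono (kernel.ι f ≫ ι) := mono_comp _ _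
    obtain ⟨m, hm, hKa, hK1⟩ := ih (kernel f) (kernel.ι f ≫ ι) hm2 hK
      (isTorsionFree_of_mono (kernel.ι f) hFt) hKr
    obtain ⟨a, ha, hJa⟩ := rank_one_sub k hL hn h1 hreg hgen hJ hJr g
    have hadd := hp_add k hL.1 hS hK hF hJ
    dsimp only at hadd
    refine ⟨m + a, by omega, ?_, fun h0 => ?_⟩
    · rw [hadd, alpha_add, hKa, hJa]
      push_cast
      ring
    · obtain ⟨F₁, j, φ, hj, hφ, hF₁, hr₁, hcod⟩ := hK1 (by omega)
      exact ⟨F₁, j ≫ kernel.ι f, φ, mono_comp _ _, hφ, hF₁, hr₁, hcod⟩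

end K848.SubFree
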