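import Groth.Agent.ShStab.K848.Slope

/-!
# Rank two stable modules on surfaces with Picard group `ℤ` and `α_1(O) = 0`
-/

set_option autoImplicit false
universe u
open CategoryTheory CategoryTheory.Limits AlgebraicGeometry Opposite TopologicalSpace Polynomial

namespace K848.K3Ext

open Groth.Agent Groth.Agent.CurvesB
open Groth.Agent.Fga.PicMon
open ShStab StabCat
open Groth.Agent.CycB.StalkExact Groth.Agent.Divis.StalkMod
open K848.Rank K848.Hull K848.Poly K848.HB K848.TF K848.Dim K848.Stab K848.Hartogs K848.PicOne K848.Extn K848.Hull2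
open K848.Slope

variable {X : Scheme.{u}} [IsIntegral X]

variable (k : Type u) [Field k] [X.Over (Spec (CommRingCat.of k))]
  [IsProper (X ↘ Spec (CommRingCat.of k))] {L : X.Modules}

omit [IsIntegral X] in
/-- the Euler characteristic on a scheme of dimension `≤ 2` -/
theorem euler_eq (hn : topologicalKrullDim X ≤ (2 : ℕ)) (F : X.Modules) :
    Curv2.euler k X F = (Module.finrank k (Coh.HH X F 0) : ℤ) - Module.finrank k (Coh.HH X F 1) +
      Module.finrank k (Coh.HH X F 2) := by
  rw [← Fga.IntAdd.eulerCharLE_eq k X 2 hn]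
  unfold FGA.eulerCharLE
  simp only [Finset.sum_range_succ, Finset.sum_range_zero]
  ring

omit [IsIntegral X] [X.Over (Spec (CommRingCat.of k))]
  [IsProper (X ↘ Spec (CommRingCat.of k))] in
/-- a nonzero global section gives a nonzero map -/
theorem exists_hom_of_nontrivial {F : X.Modules} (h : Nontrivial (Coh.HH X F 0)) :
    ∃ a : Coh.structureModule X ⟶ F, a ≠ 0 := by
  obtain ⟨x, hx⟩ := exists_ne (0 : Coh.HH X F 0)
  refine ⟨Groth.Agent.S0938.ofSec F (HZero.equivAdd F x), fun h0 => hx ?_⟩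
  have h1 := Groth.Agent.S0938.ofSec_app_one F (HZero.equivAdd F x)
  rw [h0] at h1
  have h2 : HZero.equivAdd F x = 0 := h1.symm
  exact (AddEquiv.map_eq_zero_iff _).1 h2

omit [IsIntegral X] in
theorem exists_hom_of_euler (hn : topologicalKrullDim X ≤ (2 : ℕ)) {F : X.Modules}
    (h2 : Subsingleton (Coh.HH X F 2)) (h : 1 ≤ Curv2.euler k X F) :
    ∃ a : Coh.structureModule X ⟶ F, a ≠ 0 := by
  apply exists_hom_of_nontrivial
  rw [euler_eq k hn, Module.finrank_zero_of_subsingleton (M := Coh.HH X F 2)] at h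
  by_contra hcon
  rw [not_nontrivial_iff_subsingleton] at hcon
  rw [Module.finrank_zero_of_subsingleton (M := Coh.HH X F 0)] at h
  push_cast at h
  omega

section

variable (hL : CohB1.IsAmple L) (hn : topologicalKrullDim X = (2 : ℕ))
  (hreg : ∀ x : X, IsRegularLocalRing (X.presheaf.stalk x))
  [PicGrp.Law X] (hgen : ∀ c : PicLoc.PicSet X, ∃ n : ℤ, c = PicGrp.cls L hL.1 ^ n)
  (hO : alpha 1 (hp k L (Coh.structureModule X)) = 0)
  {V : X.Modules} (hst : IsStable k X L V 2) (hVt : TorSh.IsTorsionFree V) (hr : rk V = 2)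
  (hV1 : alpha 1 (hp k L V) = alpha 2 (hp k L (Coh.structureModule X)))

include hL hn hreg hgen hO hst hVt hr hV1 in
/-- saturation of a rank one submodule -/
theorem exists_sat {A : X.Modules} (hA : Coh.IsCoh A) (hAr : rk A = 1) (a : A ⟶ V) [Mono a] :
    ∃ (A' : X.Modules) (b : A ⟶ A') (i : A' ⟶ V) (_ : Mono i) (_ : Coh.IsCoh A') (M : X.Modules)
      (hM : PicF.IsInvertible M) (φ : A' ⟶ M) (c : ℤ), b ≫ i = a ∧ TorSh.IsTorsionFree (cokernel i) ∧ rk A' = 1 ∧
      Mono φ ∧ PicGrp.cls M hM = PicGrp.cls L hL.1 ^ c ∧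
      (∀ x ∈ CohB1.support (cokernel φ), (2 : WithBot ℕ∞) ≤ ringKrullDim (X.presheaf.stalk x)) ∧
      c ≤ 0 ∧ alpha 1 (hp k L A') = c * alpha 2 (hp k L (Coh.structureModule X)) ∧
      alpha 1 (hp k L A) ≤ c * alpha 2 (hp k L (Coh.structureModule X)) := by
  have := Groth.Agent.Fga.SnapperTwist.isNoetherian_of_proper k X
  have hα := alpha_O_pos k hL hn
  obtain ⟨A', b, i, hi, hbi, hA', hc, ht, hr'⟩ := K321.Satur.exists_saturation a hst.1
  have hrk : rk A' = 1 := hr'.trans hAr
  have ht' : TorSh.IsTorsionFree (cokernel i) := ht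
  obtain ⟨M, hM, φ, c, hφ, hcls, hcod, hal, -⟩ := exists_hull_cls k hL hn (by norm_num) hreg hgen hA'
    (isTorsionFree_of_mono i hVt) hrk
  have hb : Mono b := by
    have : Mono (b ≫ i) := by rw [hbi]; infer_instance
    exact mono_of_mono b i
  have h1 := slope_of_isStable k hL hn hst i hA' (not_isZero_of_rk (by omega)) (by
    intro h
    have := rk_iso (asIso i)
    omega)
  have h2 := alpha_pred_le k hL hn b hA hA' (by omega)
  have h3 : (2 - 1 : ℕ) = 1 := rfl
  rw [h3] at h1 h2 hal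
  rw [hO, zero_add] at hal
  rw [hr, hrk, hal, hV1] at h1
  rw [hal] at h2
  refine ⟨A', b, i, hi, hA', M, hM, φ, c, hbi, ht', hrk, hφ, hcls, hcod, ?_, hal, h2⟩
  push_cast at h1
  have h4 : (c : ℚ) < 1 := by
    have h5 : (2 * c : ℚ) * alpha 2 (hp k L (Coh.structureModule X)) ≤
        1 * alpha 2 (hp k L (Coh.structureModule X)) := by linarith
    have := le_of_mul_le_mul_right h5 hα
    linarith
  have h6 : c < 1 := by exact_mod_cast h4
  omega

include hL hn hreg hgen hO hst hr hV1 in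
/-- the quotient of `V` by a saturated invertible submodule of class `L ^ {-m}` embeds in any invertible module of
class `L ^ (m + 1)` -/
theorem exists_embed {A : X.Modules} (hA : Coh.IsCoh A) (hAr : rk A = 1) (a : A ⟶ V) [Mono a]
    (ht : TorSh.IsTorsionFree (cokernel a)) (m : ℤ)
    (hA1 : alpha 1 (hp k L A) = -m * alpha 2 (hp k L (Coh.structureModule X)))
    {T : X.Modules} (hT : PicF.IsInvertible T) (hTc : PicGrp.cls T hT = PicGrp.cls L hL.1 ^ (m + 1)) :
    ∃ ι : cokernel a ⟶ T, Mono ι ∧ topologicalKrullDim (CohB1.support (cokernel ι)) ≤ 0 := by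
  have := Groth.Agent.Fga.SnapperTwist.isNoetherian_of_proper k X
  have hα := alpha_O_pos k hL hn
  have hV := hst.1
  have hN : Coh.IsCoh (cokernel a) := Groth.Agent.PerfA.CohSerre.isCoh_cokernel a hA.1 hV
  have hS : (ShortComplex.mk a (cokernel.π a) (cokernel.condition a)).ShortExact :=
    { exact := ShortComplex.exact_cokernel a, mono_f := inferInstance, epi_g := inferInstance }
  have h1 := rk_shortExact hS hV
  have h2 := hp_add k hL.1 hS hA hV hN
  dsimp only at h1 h2
  have hNr : rk (cokernel a) = 1 := by omega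
  obtain ⟨M, hM, φ, c, hφ, hcls, hcod, hal, -⟩ := exists_hull_cls k hL hn (by norm_num) hreg hgen hN ht hNr
  have h3 : (2 - 1 : ℕ) = 1 := rfl
  rw [h3] at hal
  rw [hO, zero_add] at hal
  have h4 : alpha 1 (hp k L V) = alpha 1 (hp k L A) + alpha 1 (hp k L (cokernel a)) := by rw [h2, alpha_add]
  rw [hV1, hA1, hal] at h4
  have h5 : (c : ℚ) = m + 1 := by
    have h6 : (c : ℚ) * alpha 2 (hp k L (Coh.structureModule X)) =
      (m + 1) * alpha 2 (hp k L (Coh.structureModule X)) := by linarith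
    exact mul_right_cancel₀ hα.ne' h6
  have h6 : c = m + 1 := by exact_mod_cast h5
  rw [h6, ← hTc] at hcls
  obtain ⟨e⟩ := (mc_eq_iff M T).1 (congrArg Subtype.val hcls)
  refine ⟨φ ≫ e.hom, inferInstance, ?_⟩
  have hsup : CohB1.support (cokernel (φ ≫ e.hom)) = CohB1.support (cokernel φ) := by
    have e' : cokernel (φ ≫ e.hom) ≅ cokernel φ := cokernelCompIsIso φ e.hom
    exact Groth.Agent.CohqB.DevSupport.support_congr e'
  rw [hsup]
  have hc2 := Groth.Agent.PerfA.CohSerre.isCoh_cokernel φ hN.1 (isCoh_of_isInvertible hM)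
  have hcl : IsClosed (CohB1.support (cokernel φ)) := Groth.Agent.S0020.result X (cokernel φ) hc2.2
  have h7 := topologicalKrullDim_lt_of_two hn hcl hcod
  exact_mod_cast Groth.Agent.Fga.IntNum0.withBot_le_of_lt_succ (r := 0) (by exact_mod_cast h7)

end

end K848.K3Ext
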