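import Groth.Agent.ShStab.K848.Hull2
import Groth.Agent.Curves.K321.Satur
import Groth.Agent.S0938

/-!
# Slope inequalities from stability; saturated rank one submodules
-/

set_option autoImplicit false
universe u
open CategoryTheory CategoryTheory.Limits AlgebraicGeometry Opposite TopologicalSpace Polynomial

namespace K848.Slope

open Groth.Agent.Fga.PicMon
open ShStab StabCat
open Groth.Agent.CycB.StalkExact Groth.Agent.Divis.StalkMod
open K848.Rank K848.Hull K848.Poly K848.HB K848.TF K848.Dim K848.Stab K848.Hartogs K848.PicOne K848.Extn K848.Hull2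

variable {X : Scheme.{u}} [IsIntegral X]

variable (k : Type u) [Field k] [X.Over (Spec (CommRingCat.of k))]
  [IsProper (X ↘ Spec (CommRingCat.of k))] {L : X.Modules} {n : ℕ}

/-- the slope inequality for a submodule of a stable module -/
theorem slope_of_isStable (hL : CohB1.IsAmple L) (hn : topologicalKrullDim X = n) {V : X.Modules}
    (hst : IsStable k X L V n) {F : X.Modules} (f : F ⟶ V) [Mono f] (hF : Coh.IsCoh F) (h0 : ¬ IsZero F)
    (hni : ¬ IsIso f) :
    rk V * alpha (n - 1) (hp k L F) ≤ rk F * alpha (n - 1) (hp k L V) := by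
  have hV := hst.1
  have hα := alpha_O_pos k hL hn
  have h1 := hst.2.2.2 F f inferInstance hF h0 hni _ _ (isHilbPoly_hp k hL.1 hF) (isHilbPoly_hp k hL.1 hV)
  have h2 : PolyLE (alpha n (hp k L V) • hp k L F) (alpha n (hp k L F) • hp k L V) := K848.Poly.PolyLT.le h1
  have h3 := coeff_pred_le_of_polyLE (d := n) ((natDegree_smul_le _ _).trans (natDegree_le k hL.1 hn hF))
    ((natDegree_smul_le _ _).trans (natDegree_le k hL.1 hn hV)) h2 (by
      rw [← alpha_eq_iff, alpha_smul, alpha_smul, mul_comm])
  rw [← alpha_le_iff, alpha_smul, alpha_smul, alpha_rk k hL.1 hn hV, alpha_rk k hL.1 hn hF] at h3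
  have h4 : (rk V * alpha (n - 1) (hp k L F)) * alpha n (hp k L (Coh.structureModule X)) ≤
      (rk F * alpha (n - 1) (hp k L V)) * alpha n (hp k L (Coh.structureModule X)) := by linarith
  exact le_of_mul_le_mul_right h4 hα

omit [IsIntegral X] in
/-- the coimage sequence of a map -/
theorem coimage_shortExact {V M : X.Modules} (g : V ⟶ M) :
    (ShortComplex.mk (kernel.ι g) (cokernel.π (kernel.ι g)) (cokernel.condition _)).ShortExact :=
  { exact := ShortComplex.exact_cokernel _, mono_f := inferInstance, epi_g := inferInstance }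

/-- maps from a stable module of rank two to a rank one torsion-free module of small degree are zero -/
theorem hom_eq_zero (hL : CohB1.IsAmple L) (hn : topologicalKrullDim X = n) {V : X.Modules}
    (hst : IsStable k X L V n) (hr : rk V = 2) {M : X.Modules}
    (hM : Coh.IsCoh M) (hMt : TorSh.IsTorsionFree M) (hMr : rk M = 1)
    (h : 2 * alpha (n - 1) (hp k L M) < alpha (n - 1) (hp k L V)) (g : V ⟶ M) : g = 0 := by
  have := Groth.Agent.Fga.SnapperTwist.isNoetherian_of_proper k X
  by_contra hg
  have hV := hst.1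
  have hK : Coh.IsCoh (kernel g) := Groth.Agent.PerfA.CohSerre.isCoh_kernel g hV hM.1
  let J := cokernel (kernel.ι g)
  have hJ : Coh.IsCoh J := Groth.Agent.PerfA.CohSerre.isCoh_cokernel (kernel.ι g) hK.1 hV
  let j : J ⟶ M := Abelian.factorThruCoimage g
  have hj : Mono j := inferInstanceAs (Mono (Abelian.factorThruCoimage g))
  have hJ0 : ¬ IsZero J := by
    intro h0
    apply hg
    rw [← Abelian.coimage.fac g]
    have : Abelian.coimage.π g = 0 := h0.eq_of_tgt _ _
    rw [this, Limits.zero_comp]
  have hJr1 := rk_ne_zero j hJ hMt hJ0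
  have hJr2 := rk_le_of_mono j hM
  have hS := coimage_shortExact g
  have h1 := rk_shortExact hS hV
  have h2 := hp_add k hL.1 hS hK hV hJ
  dsimp only at h1 h2
  have hJr : rk J = 1 := by omega
  have hKr : rk (kernel g) = 1 := by
    have : rk (cokernel (kernel.ι g)) = 1 := hJr
    omega
  have h3 := slope_of_isStable k hL hn hst (kernel.ι g) hK (not_isZero_of_rk (by omega)) (by
    intro hi
    apply hg
    rw [← cancel_epi (kernel.ι g), kernel.condition, Limits.comp_zero])
  have h4 := alpha_pred_le k hL hn j hJ hM (by omega)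
  have h5 : alpha (n - 1) (hp k L V) = alpha (n - 1) (hp k L (kernel g)) + alpha (n - 1) (hp k L J) := by
    rw [h2, alpha_add]
  rw [hr, hKr] at h3
  push_cast at h3
  linarith

/-- a saturated rank one submodule of a locally free module is invertible -/
theorem isIso_of_saturated (hreg : ∀ x : X, IsIntegrallyClosed (X.presheaf.stalk x)) [IsLocallyNoetherian X]
    {F M V : X.Modules} (φ : F ⟶ M) [Mono φ] (hF : Coh.IsCoh F) (hFr : rk F = 1)
    (hM : PicF.IsInvertible M)
    (hc : ∀ x ∈ CohB1.support (cokernel φ), (2 : WithBot ℕ∞) ≤ ringKrullDim (X.presheaf.stalk x))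
    (hV : Coh.IsCoh V) (hVf : FlatMod.IsFinLocFree V) (i : F ⟶ V) [Mono i]
    (ht : TorSh.IsTorsionFree (cokernel i)) : IsIso φ := by
  have hMc := isCoh_of_isInvertible hM
  obtain ⟨ψ, hψ⟩ := exists_factor hreg (big_cokOpen hF hMc φ hc) φ (bijective_cokOpen hF hMc φ) hV hVf i
  have hψ0 : ψ ≠ 0 := by
    rintro rfl
    rw [Limits.comp_zero] at hψ
    have h3 : IsZero F := by
      rw [IsZero.iff_id_eq_zero, ← cancel_mono i, ← hψ]
      simp
    exact not_isZero_of_rk (E := F) (by omega) h3
  have hψm : Mono ψ := (eq_zero_or_mono hMc (isTorsionFree_of_isInvertible hM)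
    (rk_structureModule_of_isInvertible hM) hV (isTorsionFree_of_isFinLocFree hVf) ψ).resolve_left hψ0
  -- the composite to the quotient vanishes
  have hcok := Groth.Agent.PerfA.CohSerre.isCoh_cokernel i hF.1 hV
  have hq : ψ ≫ cokernel.π i = 0 := by
    refine eq_zero_of_generic hcok.1 ht _ ?_
    have h1 : genericPoint X ∈ cokOpen hF hMc φ := by
      intro h2
      have h4 := hc _ h2
      have h5 : ringKrullDim (X.presheaf.stalk (genericPoint X)) = 0 :=
        ringKrullDim_eq_zero_of_field X.functionField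
      rw [h5] at h4
      exact absurd h4 (by decide)
    have h2 := (bijective_cokOpen hF hMc φ _ h1).2
    have h3 : stalkLin (φ ≫ ψ ≫ cokernel.π i) (genericPoint X) = 0 := by
      rw [← Category.assoc, hψ, cokernel.condition]
      exact Groth.Agent.Dcoh.StalkMod.stalkLin_zero _
    rw [stalkLin_comp] at h3
    ext m
    obtain ⟨m', rfl⟩ := h2 m
    exact DFunLike.congr_fun h3 m'
  let ρ : M ⟶ F := kernel.lift (cokernel.π i) ψ hq ≫ inv (Abelian.factorThruImage i)
  have hρ : ρ ≫ i = ψ := by
    have h1 : inv (Abelian.factorThruImage i) ≫ i = Abelian.image.ι i := by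
      rw [IsIso.inv_comp_eq, Abelian.image.fac]
    rw [Category.assoc, h1]
    exact kernel.lift_ι _ _ _
  refine ⟨ρ, ?_, ?_⟩
  · rw [← cancel_mono i, Category.assoc, hρ, hψ, Category.id_comp]
  · rw [← cancel_mono ψ, Category.assoc, hψ, hρ, Category.id_comp]

end K848.Slope
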