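import Groth.Agent.Krr.H463.Wedge
import Groth.Agent.Krr.H487.LocBasisPull
import Mathlib.LinearAlgebra.ExteriorPower.Basis

/-!
# Stalks of exterior powers
-/

set_option autoImplicit false
universe u
open CategoryTheory CategoryTheory.Limits AlgebraicGeometry Opposite TopologicalSpace
open scoped TensorProduct

namespace K848.Wedge

open Groth.Agent.Sga67.Sec Groth.Agent.Sga67.LocBasis Groth.Agent.Sga67.LocBasisStalk Groth.Agent.Sga67.ExtSheaf
open Groth.Agent.CycB.StalkExact

variable {X : Scheme.{u}} {E N : X.Modules} {i : ℕ}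

/-- germs of sections of an exterior power over a fixed affine open -/
theorem exists_ev (Φ : Phi i E N) (x : X) (U : X.affineOpens) (hx : x ∈ U.1) :
    ∃ ev : Sec N U.1 →+ ⋀[X.presheaf.stalk x]^i (E.presheaf.stalk x),
      (∀ (r : Γ(X, U.1)) (s : Sec N U.1), ev (r • s) = gerO x hx r • ev s) ∧
      ∀ w : Fin i → Sec E U.1, ev ((Φ U).symm (exteriorPower.ιMulti _ i w)) =
        exteriorPower.ιMulti (X.presheaf.stalk x) i (fun j => ger E x hx (w j)) := by
  let φ : Γ(X, U.1) →+* X.presheaf.stalk x := (X.presheaf.germ U.1 x hx).hom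
  let _ : Module Γ(X, U.1) (⋀[X.presheaf.stalk x]^i (E.presheaf.stalk x)) := Module.compHom _ φ
  have hupd : ∀ (w : Fin i → Sec E U.1) [DecidableEq (Fin i)] (j : Fin i) (a : Sec E U.1),
      (fun k => ger E x hx (Function.update w j a k)) = Function.update (fun k => ger E x hx (w k)) j (ger E x hx a) := by
    intro w _ j a
    funext k
    by_cases h : k = j
    · subst h; simp
    · simp [h]
  let f : (Sec E U.1) [⋀^Fin i]→ₗ[Γ(X, U.1)] (⋀[X.presheaf.stalk x]^i (E.presheaf.stalk x)) :=
    { toFun := fun w => exteriorPower.ιMulti (X.presheaf.stalk x) i (fun j => ger E x hx (w j))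
      map_update_add' := by
        intro _ w j a b
        rw [hupd, hupd, hupd, ger_add, AlternatingMap.map_update_add]
      map_update_smul' := by
        intro _ w j a b
        rw [hupd, hupd, ger_smul, AlternatingMap.map_update_smul]
        rfl
      map_eq_zero_of_eq' := by
        intro w j k hjk hne
        exact AlternatingMap.map_eq_zero_of_eq _ _ (by simp only [hjk]) hne }
  let g := exteriorPower.alternatingMapLinearEquiv f
  refine ⟨(g.comp (Φ U).toLinearMap).toAddMonoidHom, fun r s => ?_, fun w => ?_⟩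
  · exact (g.comp (Φ U).toLinearMap).map_smul r s
  · change g ((Φ U) ((Φ U).symm _)) = _
    rw [LinearEquiv.apply_symm_apply]
    exact exteriorPower.alternatingMapLinearEquiv_apply_ιMulti f w

/-- germs of wedge products are compatible with restriction -/
theorem ger_wedge {Φ : Phi i E N} (hΦ : PhiComp Φ) (x : X) {U V : X.affineOpens} (h : V.1 ≤ U.1) (hx : x ∈ V.1)
    (w : Fin i → Sec E U.1) :
    ger N x (h hx) ((Φ U).symm (exteriorPower.ιMulti _ i w)) =
      ger N x hx ((Φ V).symm (exteriorPower.ιMulti _ i (fun j => res E h (w j)))) :=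
  (ger_res N h x hx _).symm.trans (congrArg (ger N x hx) (hΦ U V h w))

/-- the stalk of an exterior power of a locally free module -/
theorem exists_stalk_ev (hE : FlatMod.IsFinLocFree E) (Φ : Phi i E N) (hΦ : PhiComp Φ) (x : X) :
    ∃ ev : N.presheaf.stalk x →ₗ[X.presheaf.stalk x] ⋀[X.presheaf.stalk x]^i (E.presheaf.stalk x),
      Function.Injective ev ∧
      ∀ (U : X.affineOpens) (hx : x ∈ U.1) (w : Fin i → Sec E U.1),
        ev (ger N x hx ((Φ U).symm (exteriorPower.ιMulti _ i w))) =
          exteriorPower.ιMulti (X.presheaf.stalk x) i (fun j => ger E x hx (w j)) := by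
  obtain ⟨U₁, n, hx₁, hU₁⟩ := hE x
  obtain ⟨e₁, he₁⟩ := nonempty_restrict_iso_iff.mp hU₁
  obtain ⟨_, ⟨W, rfl⟩, hxW, hW⟩ := Opens.isBasis_iff_nbhd.mp (affineBasis X) hx₁
  obtain ⟨b, hb⟩ : ∃ b : Fin n → Sec E W.1, IsLocBasis b := ⟨_, he₁.restrict hW⟩
  obtain ⟨β, hβ⟩ := Groth.Agent.Krr.H487.LocBasisPull.exists_stalkBasis hb x hxW
  obtain ⟨γ, hγ⟩ := Groth.Agent.Krr.H487.LocBasisPull.exists_stalkBasis (isLocBasis_extPow (U := W) Φ hΦ hb) x hxW
  let eq := γ.equiv (β.exteriorPower i) (Equiv.refl _)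
  have hev : ∀ I, eq (γ I) = exteriorPower.ιMulti (X.presheaf.stalk x) i (β ∘ Set.powersetCard.ofFinEmbEquiv.symm I) := by
    intro I
    rw [Module.Basis.equiv_apply, Equiv.refl_apply, exteriorPower.basis_apply]
    rfl
  refine ⟨eq.toLinearMap, eq.injective, fun U hx w => ?_⟩
  -- restrict to a common affine neighbourhood
  obtain ⟨_, ⟨V, rfl⟩, hxV, hV⟩ := Opens.isBasis_iff_nbhd.mp (affineBasis X) (show x ∈ U.1 ⊓ W.1 from ⟨hx, hxW⟩)
  have hVU : V.1 ≤ U.1 := hV.trans inf_le_left
  have hVW : V.1 ≤ W.1 := hV.trans inf_le_right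
  obtain ⟨evV, h1, h2⟩ := exists_ev Φ x V hxV
  have hbV := isLocBasis_extPow (U := V) Φ hΦ (hb.restrict hVW)
  have key0 : ∀ I : Set.powersetCard (Fin n) i, evV ((Φ V).symm (exteriorPower.ιMulti_family Γ(X, V.1) i
        (fun k => res E hVW (b k)) I)) = eq (ger N x hxV ((Φ V).symm (exteriorPower.ιMulti_family Γ(X, V.1) i
        (fun k => res E hVW (b k)) I))) := by
    intro I
    have h3 : ger N x hxV ((Φ V).symm (exteriorPower.ιMulti_family Γ(X, V.1) i
        (fun k => res E hVW (b k)) I)) = γ I := by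
      rw [hγ I]
      exact (ger_wedge hΦ x hVW hxV (b ∘ Set.powersetCard.ofFinEmbEquiv.symm I)).symm
    rw [h3, hev]
    refine (h2 _).trans ?_
    congr 1
    funext j
    simp only [Function.comp_apply]
    rw [ger_res, hβ]
  have key : ∀ s : Sec N V.1, evV s = eq (ger N x hxV s) := by
    intro s
    obtain ⟨a, ha⟩ := (hbV V.1 le_rfl).2 s
    rw [← ha, comb_apply, map_sum, ger_sum, map_sum eq]
    refine Finset.sum_congr rfl fun I _ => ?_
    rw [res_self]
    exact ((h1 _ _).trans (congrArg (gerO x hxV (a I) • ·) (key0 I))).trans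
      ((eq.map_smul _ _).symm.trans (congrArg eq (ger_smul N x hxV (a I) _).symm))
  have h3 := ger_wedge hΦ x hVU hxV w
  change eq (ger N x hx _) = _
  rw [h3, ← key, h2]
  congr 1
  funext j
  rw [ger_res]

end K848.Wedge
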